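import Groth.Agent.Lib.Depth.CM
import Groth.Agent.Lib.Serre.Regular
import Mathlib.LinearAlgebra.Matrix.Charpoly.LinearMap
import Mathlib.Algebra.Category.ModuleCat.Ext.Finite
import Mathlib.RingTheory.Ideal.AssociatedPrime.Localization

/-!
Injective dimension of finite modules over Noetherian rings, detected on residue fields:
the descent and climbing lemmas of Bass.
-/

universe u

open CategoryTheory Abelian IsLocalRing RingTheory.Sequence

namespace GrothLib.Gor

variable {A : Type u} [CommRing A]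

/-- `E` is killed by an element outside `q`. -/
def SmallAt (q : Ideal A) (E : Type*) [AddCommGroup E] [Module A E] : Prop :=
  ∃ s ∉ q, ∀ e : E, s • e = 0

theorem smallAt_of_subsingleton {q : Ideal A} (hq : q ≠ ⊤) (E : Type*) [AddCommGroup E] [Module A E]
    [Subsingleton E] : SmallAt q E :=
  ⟨1, fun h => hq ((Ideal.eq_top_iff_one q).2 h), fun _ => Subsingleton.elim _ _⟩

theorem smallAt_maximal_iff [IsLocalRing A] (E : Type*) [AddCommGroup E] [Module A E] :
    SmallAt (maximalIdeal A) E ↔ Subsingleton E := by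
  refine ⟨fun ⟨s, hs, h⟩ => subsingleton_of_forall_eq 0 fun e => ?_,
    fun _ => smallAt_of_subsingleton (maximalIdeal.isMaximal A).ne_top E⟩
  exact (IsUnit.smul_eq_zero (notMem_maximalIdeal.1 hs)).1 (h e)

theorem smul_eq_zero_of_source {X Y : ModuleCat.{u} A} {s : A} (h : ∀ x : X, s • x = 0) {i : ℕ}
    (e : Ext X Y i) : s • e = 0 := by
  rw [GrothLib.LC.smul_eq_mk₀_comp,
    show s • 𝟙 X = 0 from ModuleCat.hom_ext (LinearMap.ext h), Ext.mk₀_zero, Ext.zero_comp]

variable (M : ModuleCat.{u} A) (i : ℕ)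

/-- Dévissage: smallness of `Ext^i(F, M)` from the cyclic prime modules in the support of `F`. -/
theorem smallAt_ext_of_forall_prime [IsNoetherianRing A] (q : Ideal A) [hq : q.IsPrime]
    (F : Type u) [AddCommGroup F] [Module A F] [hF : Module.Finite A F]
    (h : ∀ P ∈ Module.support A F, SmallAt q (Ext (ModuleCat.of A (A ⧸ P.asIdeal)) M i)) :
    SmallAt q (Ext (ModuleCat.of A F) M i) := by
  induction hF using IsNoetherianRing.induction_on_isQuotientEquivQuotientPrime A with
  | subsingleton N =>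
    exact ⟨1, fun h => hq.ne_top ((Ideal.eq_top_iff_one q).2 h),
      fun e => smul_eq_zero_of_source (fun x => Subsingleton.elim _ _) e⟩
  | quotient N p e =>
    have hmem : p ∈ Module.support A N := by
      rw [e.support_eq, Module.support_eq_zeroLocus, Ideal.annihilator_quotient]
      exact (PrimeSpectrum.mem_zeroLocus _ _).2 le_rfl
    obtain ⟨s, hs, hse⟩ := h p hmem
    refine ⟨s, hs, fun x => ?_⟩
    have h0 := congrArg (fun y => (Ext.mk₀ e.toModuleIso.hom).comp y (zero_add i))
      (hse ((Ext.mk₀ e.toModuleIso.inv).comp x (zero_add i)))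
    simp only [Ext.comp_smul, Ext.comp_zero, Ext.mk₀_comp_mk₀_assoc, Iso.hom_inv_id, Ext.mk₀_id_comp] at h0
    exact h0
  | exact N₁ N₂ N₃ a b ha hb hab ih₁ ih₃ =>
    have hsupp := Module.support_of_exact hab ha hb
    obtain ⟨s₁, hs₁, h₁⟩ := ih₁ fun P hP => h P (hsupp.symm ▸ Or.inl hP)
    obtain ⟨s₃, hs₃, h₃⟩ := ih₃ fun P hP => h P (hsupp.symm ▸ Or.inr hP)
    let S : ShortComplex (ModuleCat.{u} A) := ShortComplex.mk (ModuleCat.ofHom a) (ModuleCat.ofHom b)
      (ModuleCat.hom_ext hab.linearMap_comp_eq_zero)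
    have hS : S.ShortExact :=
      { exact := (ShortComplex.moduleCat_exact_iff _).2 fun v hv => (hab v).1 hv
        mono_f := (ModuleCat.mono_iff_injective _).2 ha
        epi_g := (ModuleCat.epi_iff_surjective _).2 hb }
    refine ⟨s₃ * s₁, fun hm => (hq.mem_or_mem hm).elim hs₃ hs₁, fun x => ?_⟩
    obtain ⟨y, hy⟩ := Ext.contravariant_sequence_exact₂ hS M (s₁ • x)
      (by rw [Ext.comp_smul]; exact h₁ _)
    rw [mul_smul, ← hy, ← Ext.comp_smul, h₃, Ext.comp_zero]

/-- The step of Bass's lemma: from `A/(p, x)` in degree `i+1` to `A/p` in degree `i`. -/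
theorem smallAt_step [IsNoetherianRing A] [Module.Finite A M] (q p : Ideal A) [q.IsPrime] [p.IsPrime]
    {x : A} (hx : x ∉ p) (hxq : x ∈ q)
    (h : SmallAt q (Ext (ModuleCat.of A (A ⧸ (p ⊔ Ideal.span {x}))) M (i + 1))) :
    SmallAt q (Ext (ModuleCat.of A (A ⧸ p)) M i) := by
  obtain ⟨s, hs, hse⟩ := h
  let S : ShortComplex (ModuleCat.{u} A) :=
    ShortComplex.mk (X₁ := ModuleCat.of A (A ⧸ p)) (X₂ := ModuleCat.of A (A ⧸ p))
      (X₃ := ModuleCat.of A (A ⧸ (p ⊔ Ideal.span {x})))
      (x • 𝟙 _) (ModuleCat.ofHom (Submodule.factor le_sup_left))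
      (ModuleCat.hom_ext (LinearMap.ext fun z => by
        obtain ⟨z, rfl⟩ := Submodule.Quotient.mk_surjective _ z
        exact (Submodule.Quotient.mk_eq_zero _).2 (Ideal.mem_sup_right
          (Ideal.mul_mem_right z _ (Ideal.mem_span_singleton_self x)))))
  have hS : S.ShortExact :=
    { exact := (ShortComplex.moduleCat_exact_iff _).2 fun z hz => by
        obtain ⟨z, rfl⟩ := Submodule.Quotient.mk_surjective _ z
        obtain ⟨a, ha, b, hb, rfl⟩ := Submodule.mem_sup.1 ((Submodule.Quotient.mk_eq_zero _).1 hz)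
        obtain ⟨c, rfl⟩ := Ideal.mem_span_singleton'.1 hb
        refine ⟨Submodule.Quotient.mk c, ?_⟩
        refine (Submodule.Quotient.eq p).2 ?_
        show x * c - (a + c * x) ∈ p
        rw [mul_comm x c, sub_add_cancel_right]
        exact neg_mem ha
      mono_f := (ModuleCat.mono_iff_injective _).2 ((injective_iff_map_eq_zero _).2 fun z hz => by
        obtain ⟨z, rfl⟩ := Submodule.Quotient.mk_surjective _ z
        exact (Submodule.Quotient.mk_eq_zero _).2
          ((‹p.IsPrime›.mem_or_mem ((Submodule.Quotient.mk_eq_zero p).1 hz)).resolve_left hx))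
      epi_g := (ModuleCat.epi_iff_surjective _).2 (Submodule.factor_surjective le_sup_left) }
  let E := Ext (ModuleCat.of A (A ⧸ p)) M i
  have hrange : LinearMap.range (algebraMap A (Module.End A E) s) ≤
      Ideal.span {x} • (⊤ : Submodule A E) := by
    rintro _ ⟨e, rfl⟩
    obtain ⟨y, hy⟩ := Ext.contravariant_sequence_exact₁ hS M (n₁ := i + 1) (s • e) (add_comm 1 i)
      (by rw [Ext.comp_smul]; exact hse _)
    rw [Module.algebraMap_end_apply, ← hy]
    have hf : (Ext.mk₀ S.f).comp y (zero_add i) = x • y := (GrothLib.LC.smul_eq_mk₀_comp y x).symm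
    rw [hf]
    exact Submodule.smul_mem_smul (Ideal.mem_span_singleton_self x) Submodule.mem_top
  obtain ⟨P, hP, -, hcoeff, hPs⟩ :=
    LinearMap.exists_monic_and_natDegree_eq_and_coeff_mem_pow_and_aeval_eq_zero A
      (algebraMap A (Module.End A E) s) (Ideal.span {x}) hrange
  rw [Polynomial.aeval_algebraMap_apply] at hPs
  refine ⟨Polynomial.aeval s P, fun hmem => ?_, fun e => ?_⟩
  · refine hs (‹q.IsPrime›.mem_of_pow_mem P.natDegree ?_)
    rw [Polynomial.coe_aeval_eq_eval, Polynomial.eval_eq_sum_range, Finset.sum_range_succ,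
      hP.coeff_natDegree, one_mul] at hmem
    refine (Ideal.add_mem_iff_right q (sum_mem fun k hk => Ideal.mul_mem_right _ _ ?_)).1 hmem
    exact (Ideal.span_singleton_le_iff_mem q).2 hxq
      (Ideal.pow_le_self (Nat.sub_ne_zero_of_lt (Finset.mem_range.1 hk)) (hcoeff k))
  · exact LinearMap.congr_fun hPs e

variable [IsNoetherianRing A] [Module.Finite A M]

/-- Bass: a nonvanishing at `p` propagates to every larger prime, in a higher degree. -/
theorem exists_not_smallAt_of_lt (p q : Ideal A) [hp : p.IsPrime] [hq : q.IsPrime] (hpq : p < q)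
    (h : ¬ SmallAt p (Ext (ModuleCat.of A (A ⧸ p)) M i)) :
    ∃ j, i < j ∧ ¬ SmallAt q (Ext (ModuleCat.of A (A ⧸ q)) M j) := by
  revert i hp
  induction p using WellFoundedGT.induction with
  | ind p ih =>
  intro i hp h
  obtain ⟨x, hxq, hxp⟩ := Set.exists_of_ssubset hpq
  have hle : p ⊔ Ideal.span {x} ≤ q := sup_le hpq.le ((Ideal.span_singleton_le_iff_mem q).2 hxq)
  obtain ⟨q', hq', hq'q⟩ := Ideal.exists_minimalPrimes_le hle
  haveI := hq'.1.1
  have hxq' : x ∈ q' := hq'.1.2 (Ideal.mem_sup_right (Ideal.mem_span_singleton_self x))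
  have hpq' : p < q' := lt_of_le_of_ne (le_sup_left.trans hq'.1.2) fun e => hxp (e ▸ hxq')
  have hns : ¬ SmallAt q' (Ext (ModuleCat.of A (A ⧸ q')) M (i + 1)) := by
    intro hsm
    obtain ⟨s, hs, hse⟩ := smallAt_step M i q' p hxp hxq'
      (smallAt_ext_of_forall_prime M (i + 1) q' (A ⧸ (p ⊔ Ideal.span {x})) fun P hP => by
        rw [Module.mem_support_iff_of_finite, Ideal.annihilator_quotient] at hP
        by_cases hPq : P.asIdeal ≤ q'
        · rwa [le_antisymm hPq (hq'.2 ⟨P.2, hP⟩ hPq)]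
        · obtain ⟨s, hsP, hsq⟩ := SetLike.not_le_iff_exists.1 hPq
          refine ⟨s, hsq, fun e => smul_eq_zero_of_source (fun z => ?_) e⟩
          obtain ⟨z, rfl⟩ := Submodule.Quotient.mk_surjective _ z
          exact (Submodule.Quotient.mk_eq_zero _).2 (Ideal.mul_mem_right z _ hsP))
    exact h ⟨s, fun hsp => hs (hpq'.le hsp), hse⟩
  rcases eq_or_lt_of_le hq'q with rfl | hlt
  · exact ⟨i + 1, Nat.lt_succ_self i, hns⟩
  · obtain ⟨j, hj, hj'⟩ := ih q' hpq' hlt (i + 1) hns
    exact ⟨j, (Nat.lt_succ_self i).trans hj, hj'⟩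

omit [Module.Finite A M] in
theorem not_smallAt_hom (p : Ideal A) (hp : p ∈ associatedPrimes A M) :
    ¬ SmallAt p (Ext (ModuleCat.of A (A ⧸ p)) M 0) := by
  obtain ⟨hpr, f, hf⟩ := (isAssociatedPrime_iff_exists_injective_linearMap p M).1 hp
  rintro ⟨s, hs, hse⟩
  have h := hse (Ext.mk₀ (ModuleCat.ofHom f))
  rw [← Ext.mk₀_smul, ← Ext.mk₀_zero, (Ext.mk₀_bijective _ _).1.eq_iff] at h
  have h1 : s • f 1 = 0 := congrArg (fun φ => φ.hom (1 : A ⧸ p)) h
  rw [← map_smul, ← map_zero f] at h1
  have h2 : (Submodule.Quotient.mk (s • (1 : A)) : A ⧸ p) = 0 := hf h1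
  rw [Submodule.Quotient.mk_eq_zero, smul_eq_mul, mul_one] at h2
  exact hs h2

/-- Along a chain of primes in the support there is a nonvanishing in degree at least its length. -/
theorem exists_not_smallAt_of_series (l : LTSeries (Module.support A M)) :
    ∃ j, l.length ≤ j ∧
      ¬ SmallAt l.last.1.asIdeal (Ext (ModuleCat.of A (A ⧸ l.last.1.asIdeal)) M j) := by
  induction l using RelSeries.inductionOn' with
  | singleton x =>
    have hann : Module.annihilator A M ≤ x.1.asIdeal := Module.mem_support_iff_of_finite.1 x.2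
    obtain ⟨p, hp, hpx⟩ := Ideal.exists_minimalPrimes_le hann
    have hass := Module.associatedPrimes.minimalPrimes_annihilator_subset_associatedPrimes A M hp
    haveI := hp.1.1
    rcases eq_or_lt_of_le hpx with rfl | hlt
    · exact ⟨0, le_rfl, not_smallAt_hom M _ hass⟩
    · obtain ⟨j, -, hj'⟩ := exists_not_smallAt_of_lt M 0 p x.1.asIdeal hlt (not_smallAt_hom M p hass)
      exact ⟨j, Nat.zero_le _, hj'⟩
  | snoc l x hx ih =>
    obtain ⟨j, hj, hj'⟩ := ih
    obtain ⟨k, hk, hk'⟩ := exists_not_smallAt_of_lt M j l.last.1.asIdeal x.1.asIdeal hx hj'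
    refine ⟨k, ?_, ?_⟩
    · rw [RelSeries.snoc_length]; omega
    · rw [RelSeries.last_snoc]; exact hk'

variable [IsLocalRing A]

/-- If `Ext^i(k, M)` vanishes in degrees `≥ N` then so does every `Ext^i(A/p, M)`. -/
theorem subsingleton_ext_prime {N : ℕ}
    (h : ∀ i, N ≤ i → Subsingleton (Ext (ModuleCat.of A (A ⧸ maximalIdeal A)) M i))
    (p : Ideal A) [hp : p.IsPrime] (i : ℕ) (hi : N ≤ i) :
    Subsingleton (Ext (ModuleCat.of A (A ⧸ p)) M i) := by
  revert hp i
  induction p using WellFoundedGT.induction with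
  | ind p ih =>
  intro hp i hi
  rcases eq_or_lt_of_le (le_maximalIdeal hp.ne_top) with he | hlt
  · exact he.symm ▸ h i hi
  obtain ⟨x, hxm, hxp⟩ := Set.exists_of_ssubset hlt
  refine (smallAt_maximal_iff (A := A) (Ext (ModuleCat.of A (A ⧸ p)) M i)).1 ?_
  refine smallAt_step M i (maximalIdeal A) p hxp hxm
    (smallAt_ext_of_forall_prime M (i + 1) (maximalIdeal A) _ fun P hP => ?_)
  rw [Module.mem_support_iff_of_finite, Ideal.annihilator_quotient] at hP
  rw [smallAt_maximal_iff]
  refine ih P.asIdeal (lt_of_le_of_ne (le_sup_left.trans hP) fun e => hxp ?_) (i + 1) (by omega)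
  exact e ▸ hP (Ideal.mem_sup_right (Ideal.mem_span_singleton_self x))

theorem subsingleton_ext_finite {N : ℕ}
    (h : ∀ i, N ≤ i → Subsingleton (Ext (ModuleCat.of A (A ⧸ maximalIdeal A)) M i))
    (F : Type u) [AddCommGroup F] [Module A F] [Module.Finite A F] (i : ℕ) (hi : N ≤ i) :
    Subsingleton (Ext (ModuleCat.of A F) M i) :=
  (smallAt_maximal_iff _).1 (smallAt_ext_of_forall_prime M i _ F fun P _ =>
    (smallAt_maximal_iff _).2 (subsingleton_ext_prime M h P.asIdeal i hi))

theorem hasInjectiveDimensionLT_of_residue {N : ℕ}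
    (h : ∀ i, N + 1 ≤ i → Subsingleton (Ext (ModuleCat.of A (A ⧸ maximalIdeal A)) M i)) :
    HasInjectiveDimensionLT M (N + 1) :=
  GrothLib.Serre.hasInjectiveDimensionLT_of_cyclic N M fun I =>
    subsingleton_ext_finite M h (A ⧸ I) (N + 1) le_rfl

end GrothLib.Gor
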