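import Groth.Agent.Lib.Gor.Converse
import Groth.Agent.Lib.LC.Vanish
import Groth.Agent.Lib.LC.BaseChange
import Groth.Agent.Lib.InjMod.TorsionHull

/-! Gorenstein rings and regular elements. -/

universe u

open CategoryTheory IsLocalRing

namespace GrothLib.Gor

theorem isGorensteinLocalRing_of_H (A : Type u) [CommRing A] [IsLocalRing A] [IsNoetherianRing A] (d : ℕ)
    (h0 : ∀ i, i ≠ d → Subsingleton ((localCohomology (maximalIdeal A) i).obj (ModuleCat.of A A)))
    (hd : Module.Injective A ((localCohomology (maximalIdeal A) d).obj (ModuleCat.of A A))) :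
    LocCoh.IsGorensteinLocalRing A := by
  have hinj : ∀ j, Module.Injective A ((localCohomology (maximalIdeal A) j).obj (ModuleCat.of A A)) := fun j => by
    rcases eq_or_ne j d with rfl | hj
    · exact hd
    · haveI := h0 j hj
      exact injective_of_subsingleton
  refine { exists_hasInjectiveDimensionLT := ⟨d + 1, hasInjectiveDimensionLT_of_residue
    (ModuleCat.of A A) fun i hi => ?_⟩ }
  obtain ⟨c, rfl⟩ := Nat.exists_eq_succ_of_ne_zero (show i ≠ 0 by omega)
  haveI := subsingleton_ext_quotPow hinj (i := c) (h0 (c + 1) (by omega))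
    (injectiveResolution (ModuleCat.of A A))
  let q : (A ⧸ maximalIdeal A ^ 1) ≃ₗ[A] A ⧸ maximalIdeal A :=
    Submodule.quotEquivOfEq _ _ (pow_one _)
  exact (Equiv.ofBijective _ (precompLM_bijective_of_iso q.toModuleIso (c + 1))).subsingleton

theorem exists_H_dim (A : Type u) [CommRing A] [IsLocalRing A] [IsNoetherianRing A]
    [LocCoh.IsGorensteinLocalRing A] :
    ∃ d : ℕ, LocCoh.depth A A = d ∧
      (∀ i, i ≠ d → Subsingleton ((localCohomology (maximalIdeal A) i).obj (ModuleCat.of A A))) ∧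
      Module.Injective A ((localCohomology (maximalIdeal A) d).obj (ModuleCat.of A A)) := by
  obtain ⟨d, hd, hdep, hE, -⟩ := exists_dim A
  refine ⟨d, hdep, fun i hi => ?_, injective_localCohomology hE⟩
  rcases lt_or_gt_of_ne hi with hlt | hgt
  · exact (GrothLib.Depth.le_idealDepth_iff_H (maximalIdeal A) d).1 hdep.ge i hlt
  · refine LC.subsingleton_of_supportDim_lt i A (maximalIdeal A) A ?_
    rw [Module.supportDim_self_eq_ringKrullDim, hd]
    exact_mod_cast hgt

variable {A : Type u} [CommRing A] [IsLocalRing A] [IsNoetherianRing A] {f : A}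
  (hf : f ∈ maximalIdeal A) (hreg : IsSMulRegular A f)

/-- `0 → A → A → A/(f) → 0`. -/
noncomputable abbrev quotSeq (f : A) : ShortComplex (ModuleCat.{u} A) :=
  ShortComplex.mk (X₁ := ModuleCat.of A A) (X₂ := ModuleCat.of A A) (X₃ := ModuleCat.of A (A ⧸ Ideal.span {f}))
    (f • 𝟙 _) (ModuleCat.ofHom (Submodule.mkQ _))
    (ModuleCat.hom_ext (LinearMap.ext fun z => (Submodule.Quotient.mk_eq_zero _).2
      (Ideal.mul_mem_right z _ (Ideal.mem_span_singleton_self f))))

include hreg in
omit [IsLocalRing A] [IsNoetherianRing A] in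
theorem quotSeq_shortExact : (quotSeq f).ShortExact :=
  { exact := (ShortComplex.moduleCat_exact_iff _).2 fun z hz => by
      obtain ⟨c, hc⟩ := Ideal.mem_span_singleton'.1 ((Submodule.Quotient.mk_eq_zero _).1 hz)
      exact ⟨c, (mul_comm f c).trans hc⟩
    mono_f := (ModuleCat.mono_iff_injective _).2 hreg
    epi_g := (ModuleCat.epi_iff_surjective _).2 (Submodule.mkQ_surjective _) }

omit [IsNoetherianRing A] in
theorem map_quotSeq_f (i : ℕ) (z : (localCohomology (maximalIdeal A) i).obj (ModuleCat.of A A)) :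
    (localCohomology (maximalIdeal A) i).map (quotSeq f).f z = f • z :=
  (LC.map_smul_apply (maximalIdeal A) i f (𝟙 (ModuleCat.of A A)) z).trans
    (congrArg (fun t => f • t) (LC.map_id_apply (maximalIdeal A) i z))

theorem exists_semilinear (i : ℕ) [IsLocalRing (A ⧸ Ideal.span {f})] :
    ∃ φ : (localCohomology (maximalIdeal (A ⧸ Ideal.span {f})) i).obj
          (ModuleCat.of (A ⧸ Ideal.span {f}) (A ⧸ Ideal.span {f})) ≃+
        (localCohomology (maximalIdeal A) i).obj (ModuleCat.of A (A ⧸ Ideal.span {f})),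
      ∀ (r : A) x, φ (Ideal.Quotient.mk (Ideal.span {f}) r • x) = r • φ x := by
  obtain ⟨φ, hφ⟩ := LC.exists_H_addEquiv_restrictScalars (R := A) (R' := A ⧸ Ideal.span {f})
    (maximalIdeal A) i (A ⧸ Ideal.span {f})
  have h : (maximalIdeal A).map (algebraMap A (A ⧸ Ideal.span {f})) = maximalIdeal (A ⧸ Ideal.span {f}) :=
    map_maximalIdeal_of_surjective _ Ideal.Quotient.mk_surjective
  rw [← h]
  exact ⟨φ, hφ⟩

include hreg in
theorem subsingleton_G {i : ℕ} (h₁ : Subsingleton ((localCohomology (maximalIdeal A) i).obj (ModuleCat.of A A)))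
    (h₂ : Subsingleton ((localCohomology (maximalIdeal A) (i + 1)).obj (ModuleCat.of A A))) :
    Subsingleton ((localCohomology (maximalIdeal A) i).obj (ModuleCat.of A (A ⧸ Ideal.span {f}))) :=
  LC.subsingleton₃ (maximalIdeal A) (quotSeq_shortExact hreg) i h₁ h₂

include hreg in
theorem exists_injective_torsion_iso [IsLocalRing (A ⧸ Ideal.span {f})] (c : ℕ)
    (h0 : Subsingleton ((localCohomology (maximalIdeal A) c).obj (ModuleCat.of A A))) :
    Nonempty ((localCohomology (maximalIdeal (A ⧸ Ideal.span {f})) c).obj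
        (ModuleCat.of (A ⧸ Ideal.span {f}) (A ⧸ Ideal.span {f})) ≃ₗ[A ⧸ Ideal.span {f}]
      LocCoh.torsionBy (Ideal.span {f})
        ((localCohomology (maximalIdeal A) (c + 1)).obj (ModuleCat.of A A))) := by
  have hS := quotSeq_shortExact hreg
  obtain ⟨φ, hφ⟩ := exists_semilinear (f := f) c
  let δ := LC.δ (maximalIdeal A) hS c
  have hmem : ∀ z, δ z ∈ LocCoh.torsionBy (Ideal.span {f})
      ((localCohomology (maximalIdeal A) (c + 1)).obj (ModuleCat.of A A)) := fun z =>
    (Submodule.mem_torsionBySet_iff _ _).2 fun ⟨a, ha⟩ => by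
      obtain ⟨b, rfl⟩ := Ideal.mem_span_singleton'.1 ha
      show (b * f) • δ z = 0
      have h1 : f • δ z = 0 := (map_quotSeq_f _ _).symm.trans (LC.map_f_δ (maximalIdeal A) hS c z)
      rw [mul_smul, h1, smul_zero]
  have hδ : Function.Injective δ := (injective_iff_map_eq_zero _).2 fun z hz => by
    obtain ⟨y, rfl⟩ := LC.exists_of_δ_eq_zero (maximalIdeal A) hS c hz
    rw [@Subsingleton.elim _ h0 y 0, map_zero]
  refine ⟨LinearEquiv.ofBijective
    { toFun := fun x => ⟨δ (φ x), hmem _⟩
      map_add' := fun x y => Subtype.ext (by show δ (φ (x + y)) = δ (φ x) + δ (φ y); rw [map_add, map_add])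
      map_smul' := fun r x => by
        obtain ⟨r, rfl⟩ := Ideal.Quotient.mk_surjective r
        refine Subtype.ext ?_
        show δ (φ (Ideal.Quotient.mk _ r • x)) = r • δ (φ x)
        rw [hφ, map_smul] }
    ⟨fun x y h => φ.injective (hδ (congrArg Subtype.val h)), fun y => ?_⟩⟩
  obtain ⟨z, hz⟩ := LC.exists_of_map_f_eq_zero (maximalIdeal A) hS c (x := y.1)
    ((map_quotSeq_f _ _).trans ((Submodule.mem_torsionBySet_iff _ _).1 y.2
      (⟨f, Ideal.mem_span_singleton_self f⟩ : (Ideal.span {f} : Ideal A))))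
  exact ⟨φ.symm z, Subtype.ext (show δ (φ (φ.symm z)) = y.1 by rw [φ.apply_symm_apply]; exact hz)⟩

include hf hreg

theorem isLocalRing_quotient : IsLocalRing (A ⧸ Ideal.span {f}) :=
  haveI : Nontrivial (A ⧸ Ideal.span {f}) := Ideal.Quotient.nontrivial_iff.2 fun h =>
    (maximalIdeal.isMaximal A).ne_top (top_le_iff.1 (h.ge.trans ((Ideal.span_singleton_le_iff_mem _).2 hf)))
  IsLocalRing.of_surjective' (Ideal.Quotient.mk _) Ideal.Quotient.mk_surjective

theorem isGorensteinLocalRing_quotient [LocCoh.IsGorensteinLocalRing A] :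
    LocCoh.IsGorensteinLocalRing (A ⧸ Ideal.span {f}) := by
  haveI := isLocalRing_quotient hf hreg
  obtain ⟨d, hdep, h0, hd⟩ := exists_H_dim A
  have h1 : 1 ≤ LocCoh.idealDepth (maximalIdeal A) A :=
    (GrothLib.Depth.one_le_idealDepth_iff (maximalIdeal.isMaximal A).ne_top).2 ⟨f, hf, hreg⟩
  rw [← LocCoh.depth, hdep] at h1
  obtain ⟨c, rfl⟩ := Nat.exists_eq_succ_of_ne_zero (show d ≠ 0 by rintro rfl; exact absurd h1 (by simp))
  refine isGorensteinLocalRing_of_H _ c (fun i hi => ?_) ?_
  · obtain ⟨φ, -⟩ := exists_semilinear (f := f) i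
    haveI := subsingleton_G hreg (i := i)
    rcases eq_or_ne i (c + 1) with rfl | hi'
    · haveI : Subsingleton ((localCohomology (maximalIdeal A) (c + 1)).obj (ModuleCat.of A (A ⧸ Ideal.span {f}))) := by
        refine subsingleton_of_forall_eq 0 fun z => ?_
        obtain ⟨y, rfl⟩ := LC.exists_of_δ_eq_zero (maximalIdeal A) (quotSeq_shortExact hreg) (c + 1)
          (@Subsingleton.elim _ (h0 (c + 2) (by omega)) _ _ : _ = (0 : (localCohomology (maximalIdeal A) (c + 2)).obj _)) (x := z)
        have hdiv : ∃ w, f • w = y := by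
          obtain ⟨g, hg⟩ := hd.out ((quotSeq f).f.hom) hreg (LinearMap.toSpanSingleton A _ y)
          refine ⟨g 1, ?_⟩
          have h := hg (1 : A)
          rw [LinearMap.toSpanSingleton_apply, one_smul] at h
          rw [← h, ← map_smul]
          rfl
        obtain ⟨w, rfl⟩ := hdiv
        rw [← map_quotSeq_f]
        exact LC.map_g_map_f (maximalIdeal A) (S := quotSeq f) (c + 1) w
      exact φ.toEquiv.subsingleton
    · haveI := subsingleton_G hreg (h0 i hi') (h0 (i + 1) (by omega))
      exact φ.toEquiv.subsingleton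
  · obtain ⟨e⟩ := exists_injective_torsion_iso hreg c (h0 c (by omega))
    exact GrothLib.InjMod.injective_of_linearEquiv e (GrothLib.InjMod.injective_torsionBy _ hd)

theorem isGorensteinLocalRing_of_quotient [LocCoh.IsGorensteinLocalRing (A ⧸ Ideal.span {f})] :
    LocCoh.IsGorensteinLocalRing A := by
  haveI := isLocalRing_quotient hf hreg
  obtain ⟨c, -, h0, hc⟩ := exists_H_dim (A ⧸ Ideal.span {f})
  have hS := quotSeq_shortExact hreg
  have hG : ∀ i, i ≠ c → Subsingleton ((localCohomology (maximalIdeal A) i).obj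
      (ModuleCat.of A (A ⧸ Ideal.span {f}))) := fun i hi => by
    obtain ⟨φ, -⟩ := exists_semilinear (f := f) i
    haveI := h0 i hi
    exact φ.symm.toEquiv.subsingleton
  have hH : ∀ i, i ≠ c + 1 → Subsingleton ((localCohomology (maximalIdeal A) i).obj (ModuleCat.of A A)) := by
    intro i hi
    refine subsingleton_of_forall_eq 0 fun z => ?_
    have hinj : ∀ w : (localCohomology (maximalIdeal A) i).obj (ModuleCat.of A A), f • w = 0 → w = 0 := by
      intro w hw
      rcases i with - | j
      · obtain ⟨⟨m, hm⟩, rfl⟩ := (LC.torsionEquiv (maximalIdeal A) (ModuleCat.of A A)).surjective w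
        rw [← map_smul, LinearEquiv.map_eq_zero_iff] at hw
        rw [LinearEquiv.map_eq_zero_iff]
        exact Subtype.ext (hreg ((congrArg Subtype.val hw).trans (smul_zero f).symm))
      · obtain ⟨y, rfl⟩ := LC.exists_of_map_f_eq_zero (maximalIdeal A) hS j (x := w)
          ((map_quotSeq_f _ _).trans hw)
        rw [@Subsingleton.elim _ (hG j (by omega)) y 0, map_zero]
    obtain ⟨n, hn⟩ := LC.isPowerTorsion (maximalIdeal A) i (ModuleCat.of A A) z
    have h := hn _ (Ideal.pow_mem_pow hf n)
    clear hn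
    induction n with
    | zero => rwa [pow_zero, one_smul] at h
    | succ n ih => exact ih (hinj _ (by rwa [← mul_smul, ← pow_succ']))
  refine isGorensteinLocalRing_of_H A (c + 1) hH ?_
  obtain ⟨e⟩ := exists_injective_torsion_iso hreg c (hH c (by omega))
  let H := (localCohomology (maximalIdeal A) (c + 1)).obj (ModuleCat.of A A)
  have hHf : Module.Injective (A ⧸ Ideal.span {f}) (LocCoh.torsionBy (Ideal.span {f}) H) :=
    GrothLib.InjMod.injective_of_linearEquiv e.symm hc
  have hdiv : ∀ z : H, ∃ w, f • w = z := fun z => by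
    obtain ⟨w, hw⟩ := LC.exists_of_map_g_eq_zero (maximalIdeal A) hS (c + 1)
      (x := z) (@Subsingleton.elim _ (hG (c + 1) (by omega)) _ _)
    exact ⟨w, (map_quotSeq_f _ _).symm.trans hw⟩
  obtain ⟨E, _, _, j, hj⟩ := GrothLib.InjMod.exists_injective_hull (R := A) H
  haveI := hj.isInjective
  obtain ⟨hjinj, hess⟩ := (GrothLib.InjMod.isEssentialInj_iff j).1 hj.toIsEssentialInj
  have htors : ∀ y : E, y ∈ DRing.torsionSub (maximalIdeal A) E := by
    obtain ⟨C, hC⟩ := GrothLib.InjMod.exists_isCompl (DRing.torsionSub (maximalIdeal A) E)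
      (LC.injective_torsionSub _ E)
    have hC0 : C = ⊥ := (Submodule.eq_bot_iff C).2 fun y hy => by
      by_contra hy0
      obtain ⟨r, ⟨w, hw⟩, hr0⟩ := hess y hy0
      obtain ⟨n, hn⟩ := LC.isPowerTorsion (maximalIdeal A) (c + 1) (ModuleCat.of A A) w
      exact hr0 (Submodule.disjoint_def.1 hC.disjoint _
        ⟨n, fun a ha => by rw [← hw, ← map_smul, hn a ha, map_zero]⟩ (C.smul_mem r hy))
    intro y
    have h := hC.sup_eq_top
    rw [hC0, sup_bot_eq] at h
    exact h ▸ Submodule.mem_top
  let T := LocCoh.torsionBy (Ideal.span {f}) E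
  let jf : LocCoh.torsionBy (Ideal.span {f}) H →ₗ[A ⧸ Ideal.span {f}] T :=
    { toFun := fun x => ⟨j x.1, (Submodule.mem_torsionBySet_iff _ _).2 fun a => by
        rw [← map_smul, (Submodule.mem_torsionBySet_iff _ _).1 x.2 a, map_zero]⟩
      map_add' := fun x y => Subtype.ext (map_add j x.1 y.1)
      map_smul' := fun r x => by
        obtain ⟨r, rfl⟩ := Ideal.Quotient.mk_surjective r
        exact Subtype.ext (map_smul j r x.1) }
  have hjf : Function.Surjective jf := by
    obtain ⟨C, hC⟩ := GrothLib.InjMod.exists_isCompl_range hHf jf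
      fun x y h => Subtype.ext (hjinj (congrArg Subtype.val h))
    have hC0 : C = ⊥ := (Submodule.eq_bot_iff C).2 fun y hy => by
      by_contra hy0
      obtain ⟨r, ⟨w, hw⟩, hr0⟩ := hess y.1 fun h => hy0 (Subtype.ext h)
      have hwf : w ∈ LocCoh.torsionBy (Ideal.span {f}) H := (Submodule.mem_torsionBySet_iff _ _).2 fun a =>
        hjinj (by rw [map_smul, hw, map_zero, smul_comm, (Submodule.mem_torsionBySet_iff _ _).1 y.2 a, smul_zero])
      refine hr0 (congrArg Subtype.val (Submodule.disjoint_def.1 hC.disjoint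
        (Ideal.Quotient.mk (Ideal.span {f}) r • y) ⟨⟨w, hwf⟩, Subtype.ext hw⟩ (C.smul_mem _ hy)))
    intro y
    have h := hC.sup_eq_top
    rw [hC0, sup_bot_eq] at h
    exact LinearMap.range_eq_top.1 h y
  have hsurj : Function.Surjective j := by
    intro y
    obtain ⟨n, hn⟩ := htors y
    have h := hn _ (Ideal.pow_mem_pow hf n)
    clear hn
    induction n generalizing y with
    | zero => rw [pow_zero, one_smul] at h; exact ⟨0, by rw [map_zero, h]⟩
    | succ n ih =>
      obtain ⟨z, hz⟩ := ih (f • y) (by rwa [← mul_smul, ← pow_succ])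
      obtain ⟨w, rfl⟩ := hdiv z
      have hmem : y - j w ∈ T := (Submodule.mem_torsionBySet_iff _ _).2 fun ⟨a, ha⟩ => by
        obtain ⟨b, rfl⟩ := Ideal.mem_span_singleton'.1 ha
        show (b * f) • (y - j w) = 0
        rw [mul_smul, smul_sub, ← map_smul, hz, sub_self, smul_zero]
      obtain ⟨v, hv⟩ := hjf ⟨_, hmem⟩
      refine ⟨v.1 + w, ?_⟩
      rw [map_add, show j v.1 = y - j w from congrArg Subtype.val hv, sub_add_cancel]
  exact GrothLib.InjMod.injective_of_linearEquiv (LinearEquiv.ofBijective j ⟨hjinj, hsurj⟩) hj.isInjective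

end GrothLib.Gor
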