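import Groth.Agent.Lib.Gor.Basic
import Mathlib.RingTheory.LocalProperties.Injective
import Mathlib.Algebra.Category.ModuleCat.Localization
import Mathlib.RingTheory.LocalProperties.ProjectiveDimension
import Mathlib.Algebra.Category.ModuleCat.EnoughInjectives

/-! Injective dimension is a local property over Noetherian rings. -/

universe u

open CategoryTheory

namespace GrothLib.Gor

variable {R : Type u} [CommRing R] [IsNoetherianRing R]

theorem injective_localizedModule (S : Submonoid R) (M : ModuleCat.{u} R) [hM : Injective M] :
    Injective (M.localizedModule S) :=
  haveI : Module.Injective R M := Module.injective_module_of_injective_object R M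
  Module.injective_object_of_injective_module (Localization S) (M.localizedModule S)
    (inj := Module.injective_of_isLocalizedModule (Rₛ := Localization S) S (M.localizedModuleMkLinearMap S))

theorem hasInjectiveDimensionLT_localizedModule (S : Submonoid R) (n : ℕ) :
    ∀ M : ModuleCat.{u} R, HasInjectiveDimensionLT M n → HasInjectiveDimensionLT (M.localizedModule S) n := by
  induction n with
  | zero =>
    intro M hM
    haveI := hM
    rw [hasInjectiveDimensionLT_zero_iff_isZero]
    exact Functor.map_isZero (ModuleCat.localizedModuleFunctor S) (isZero_of_hasInjectiveDimensionLT_zero M)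
  | succ n ih =>
    intro M hM
    rcases n with - | n
    · rw [← injective_iff_hasInjectiveDimensionLT_one] at hM ⊢
      haveI := hM
      exact injective_localizedModule S M
    obtain ⟨p⟩ := EnoughInjectives.presentation M
    have hS : (ShortComplex.mk p.f (Limits.cokernel.π p.f) (Limits.cokernel.condition p.f)).ShortExact :=
      { exact := ShortComplex.exact_cokernel p.f }
    have hT := hS.map_of_exact (ModuleCat.localizedModuleFunctor S)
    exact (hT.hasInjectiveDimensionLT_X₃_iff n (injective_localizedModule S p.J (hM := p.injective))).1
      (ih _ ((hS.hasInjectiveDimensionLT_X₃_iff n p.injective).2 hM))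

theorem hasInjectiveDimensionLT_of_localization_maximal (n : ℕ) :
    ∀ M : ModuleCat.{u} R,
      (∀ m : MaximalSpectrum R, HasInjectiveDimensionLT (M.localizedModule m.1.primeCompl) (n + 1)) →
      HasInjectiveDimensionLT M (n + 1) := by
  induction n with
  | zero =>
    intro M h
    rw [← injective_iff_hasInjectiveDimensionLT_one]
    haveI : Module.Injective R M := Module.injective_of_localization_maximal fun I hI => by
      have h1 := h ⟨I, hI⟩
      rw [← injective_iff_hasInjectiveDimensionLT_one] at h1
      exact GrothLib.InjMod.injective_of_linearEquiv (Shrink.linearEquiv (Localization I.primeCompl) _).symm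
        (Module.injective_module_of_injective_object (Localization I.primeCompl) (M.localizedModule I.primeCompl)
          (inj := h1))
    exact Module.injective_object_of_injective_module R M
  | succ n ih =>
    intro M h
    obtain ⟨p⟩ := EnoughInjectives.presentation M
    have hS : (ShortComplex.mk p.f (Limits.cokernel.π p.f) (Limits.cokernel.condition p.f)).ShortExact :=
      { exact := ShortComplex.exact_cokernel p.f }
    refine (hS.hasInjectiveDimensionLT_X₃_iff n p.injective).1 (ih _ fun m => ?_)
    exact ((hS.map_of_exact (ModuleCat.localizedModuleFunctor m.1.primeCompl)).hasInjectiveDimensionLT_X₃_iff n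
      (injective_localizedModule m.1.primeCompl p.J (hM := p.injective))).2 (h m)

/-- The localization of the free module of rank one. -/
noncomputable def localizedModuleSelfIso (S : Submonoid R) :
    (ModuleCat.of R R).localizedModule S ≅ ModuleCat.of (Localization S) (Localization S) :=
  (((Shrink.linearEquiv (Localization S) (LocalizedModule S R)).trans
    (LocalizedModule.equivTensorProduct S R)).trans
      (TensorProduct.AlgebraTensorModule.rid R (Localization S) (Localization S))).toModuleIso

theorem isGorensteinLocalRing_localization (p : Ideal R) [p.IsPrime] {n : ℕ}
    (h : HasInjectiveDimensionLT (ModuleCat.of R R) n) :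
    LocCoh.IsGorensteinLocalRing (Localization.AtPrime p) :=
  haveI : IsNoetherianRing (Localization.AtPrime p) :=
    IsLocalization.isNoetherianRing p.primeCompl _ inferInstance
  haveI := hasInjectiveDimensionLT_localizedModule p.primeCompl n _ h
  { exists_hasInjectiveDimensionLT := ⟨n, hasInjectiveDimensionLT_of_iso (localizedModuleSelfIso p.primeCompl) n⟩ }

end GrothLib.Gor
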