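import Groth.Agent.Lib.Gor.InjDim
import Mathlib.RingTheory.Regular.ProjectiveDimension

/-! Finite injective dimension over a Noetherian local ring; Gorenstein local rings are CM. -/

universe u

open CategoryTheory Abelian IsLocalRing RingTheory.Sequence

namespace GrothLib.Gor

variable {A : Type u} [CommRing A] [IsNoetherianRing A] [IsLocalRing A]

local notation "κ" => ModuleCat.of A (A ⧸ maximalIdeal A)

omit [IsNoetherianRing A] [IsLocalRing A] in
theorem exists_vanish {M : ModuleCat.{u} A} {n : ℕ} (h : HasInjectiveDimensionLT M n) (X : ModuleCat.{u} A) :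
    ∀ i, n ≤ i → Subsingleton (Ext X M i) := fun i hi =>
  HasInjectiveDimensionLT.subsingleton M n i hi X

variable (M : ModuleCat.{u} A) [Module.Finite A M]

theorem not_subsingleton_exists_ge (l : LTSeries (Module.support A M)) :
    ∃ j, l.length ≤ j ∧ ¬ Subsingleton (Ext κ M j) := by
  obtain ⟨j, hj, hj'⟩ := exists_not_smallAt_of_series M l
  rcases eq_or_lt_of_le (le_maximalIdeal l.last.1.2.ne_top) with he | hlt
  · exact ⟨j, hj, fun hs => hj' (he.symm ▸ (smallAt_maximal_iff _).2 hs)⟩
  · obtain ⟨k, hk, hk'⟩ := exists_not_smallAt_of_lt M j _ _ hlt hj'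
    exact ⟨k, hj.trans hk.le, fun hs => hk' ((smallAt_maximal_iff _).2 hs)⟩

/-- Bass: for a nonzero finite module of finite injective dimension `r` one has
`dim M ≤ r ≤ depth A`. -/
theorem exists_injDim [Nontrivial M] {N : ℕ} (h : ∀ i, N ≤ i → Subsingleton (Ext κ M i)) :
    ∃ r : ℕ, (∀ i, r < i → Subsingleton (Ext κ M i)) ∧ ¬ Subsingleton (Ext κ M r) ∧
      Module.supportDim A M ≤ (r : WithBot ℕ∞) ∧ (r : ℕ∞) ≤ LocCoh.depth A A := by
  classical
  obtain ⟨x, hx⟩ : ∃ x, x ∈ Module.support A M := (Module.nonempty_support_iff (R := A)).2 inferInstance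
  obtain ⟨j₀, -, hj₀⟩ := not_subsingleton_exists_ge M (RelSeries.singleton _ ⟨x, hx⟩)
  let P : ℕ → Prop := fun i => ¬ Subsingleton (Ext κ M i)
  have hlt : ∀ i, P i → i ≤ N := fun i hi => le_of_not_gt fun hlt => hi (h i hlt.le)
  set r := Nat.findGreatest P N with hr
  have hPr : P r := Nat.findGreatest_spec (hlt j₀ hj₀) hj₀
  have hmax : ∀ i, P i → i ≤ r := fun i hi => Nat.le_findGreatest (hlt i hi) hi
  have habove : ∀ i, r < i → Subsingleton (Ext κ M i) := fun i hi =>
    not_not.1 fun hP => absurd (hmax i hP) (not_le.2 hi)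
  refine ⟨r, habove, hPr, iSup_le fun l => ?_, ?_⟩
  · obtain ⟨j, hj, hj'⟩ := not_subsingleton_exists_ge M l
    exact_mod_cast hj.trans (hmax j hj')
  by_contra hd
  rw [not_le] at hd
  have hne : (maximalIdeal A) ≠ ⊤ := (maximalIdeal.isMaximal A).ne_top
  obtain ⟨t, ht⟩ := ENat.ne_top_iff_exists.1 (GrothLib.Depth.idealDepth_ne_top (M := A) hne)
  rw [LocCoh.depth, ← ht, Nat.cast_lt] at hd
  obtain ⟨rs, hlen, hmem, hreg⟩ :=
    (GrothLib.Depth.le_idealDepth_iff_exists _ (GrothLib.Depth.smul_top_ne_top hne) t).1 ht.le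
  haveI := GrothLib.Depth.nontrivial_quotient_ofList (M := A) rs hmem
  have hQ := GrothLib.Depth.idealDepth_ofList (maximalIdeal A) rs hmem A hreg
  rw [← ht, hlen] at hQ
  set Q := A ⧸ (Ideal.ofList rs • ⊤ : Submodule A A)
  have hQ0 : ¬ 1 ≤ LocCoh.idealDepth (maximalIdeal A) Q := fun h1 => by
    have h2 : ((1 + t : ℕ) : ℕ∞) ≤ (t : ℕ∞) := by
      refine le_trans ?_ hQ.ge
      push_cast
      gcongr
    exact absurd (Nat.cast_le.1 h2) (by omega)
  obtain ⟨p, hp, hmp⟩ := GrothLib.Depth.exists_associatedPrime_ge hne hQ0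
  obtain rfl := (maximalIdeal.isMaximal A).eq_of_le hp.isPrime.ne_top hmp
  obtain ⟨-, f, hf⟩ := (isAssociatedPrime_iff_exists_injective_linearMap _ _).1 hp
  let S : ShortComplex (ModuleCat.{u} A) := ShortComplex.mk (X₁ := κ) (X₂ := ModuleCat.of A Q)
    (ModuleCat.ofHom f) (ModuleCat.ofHom (LinearMap.range f).mkQ)
    (ModuleCat.hom_ext (LinearMap.ext fun x =>
      (Submodule.Quotient.mk_eq_zero _).2 (LinearMap.mem_range_self f x)))
  have hS : S.ShortExact :=
    { exact := (ShortComplex.moduleCat_exact_iff _).2 fun x hx => (Submodule.Quotient.mk_eq_zero _).1 hx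
      mono_f := (ModuleCat.mono_iff_injective _).2 hf
      epi_g := (ModuleCat.epi_iff_surjective _).2 (Submodule.mkQ_surjective _) }
  haveI : HasProjectiveDimensionLE (ModuleCat.of A Q) t := by
    rw [← projectiveDimension_le_iff]
    refine le_of_eq ?_
    have := ModuleCat.projectiveDimension_quotient_eq_add_length_of_isWeaklyRegular
      (ModuleCat.of A A) rs hreg hmem
    haveI hproj : Projective (ModuleCat.of A A) := (IsProjective.iff_projective (R := A) A).1 inferInstance
    rw [ModuleCat.projectiveDimension_eq_zero_of_projective (ModuleCat.of A A), zero_add, hlen] at this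
    exact this
  have hE : Subsingleton (Ext S.X₂ M r) := HasProjectiveDimensionLT.subsingleton _ (t + 1) r hd M
  have h3 : Subsingleton (Ext S.X₃ M (r + 1)) :=
    subsingleton_ext_finite M (fun i hi => habove i hi) (Q ⧸ LinearMap.range f) (r + 1) le_rfl
  exact hPr (subsingleton_of_forall_eq 0 fun e => by
    obtain ⟨y, hy⟩ := Ext.contravariant_sequence_exact₁ hS M (n₁ := r + 1) e (add_comm 1 r)
      (@Subsingleton.elim _ h3 _ _)
    rw [← hy, @Subsingleton.elim _ hE y 0, Ext.comp_zero])

omit M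

variable (A) [LocCoh.IsGorensteinLocalRing A]

/-- In a Gorenstein local ring the depth, the dimension and the injective dimension agree, and
`Ext^i(k, A)` lives in that one degree. -/
theorem exists_dim :
    ∃ d : ℕ, ringKrullDim A = d ∧ LocCoh.depth A A = d ∧
      (∀ i, i ≠ d → Subsingleton (Ext κ (ModuleCat.of A A) i)) ∧
      ¬ Subsingleton (Ext κ (ModuleCat.of A A) d) := by
  obtain ⟨n, hn⟩ := LocCoh.IsGorensteinLocalRing.exists_hasInjectiveDimensionLT (A := A)
  obtain ⟨r, habove, hne, hdim, hdep⟩ := exists_injDim (ModuleCat.of A A) (exists_vanish hn _)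
  rw [show Module.supportDim A (ModuleCat.of A A) = ringKrullDim A from
    Module.supportDim_self_eq_ringKrullDim A] at hdim
  have hdd := GrothLib.Depth.depth_le_supportDim A A
  rw [Module.supportDim_self_eq_ringKrullDim] at hdd
  have hd : ringKrullDim A = r := le_antisymm hdim ((WithBot.coe_le_coe.2 hdep).trans hdd)
  have hdep' : LocCoh.depth A A = r := by
    refine le_antisymm ?_ hdep
    rw [hd] at hdd
    exact WithBot.coe_le_coe.1 hdd
  refine ⟨r, hd, hdep', fun i hi => ?_, hne⟩
  rcases lt_or_gt_of_ne hi with hlt | hgt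
  · exact (GrothLib.Depth.le_idealDepth_iff_ext (M := A) (maximalIdeal A) r).1 hdep'.ge i hlt
  · exact habove i hgt

theorem isCohenMacaulayLocalRing : LocCoh.IsCohenMacaulayLocalRing A := by
  obtain ⟨d, h1, h2, -⟩ := exists_dim A
  refine { supportDim_eq_depth := ?_ }
  rw [Module.supportDim_self_eq_ringKrullDim, h1, h2]
  rfl

end GrothLib.Gor
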