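import Groth.Agent.Lib.Gor.Liaison
import Groth.Agent.Lib.CanonMod.CM
import Groth.Agent.Lib.CatCM.Basic
import Mathlib.RingTheory.GradedAlgebra.Radical
import Mathlib.RingTheory.RegularLocalRing.Polynomial
import Mathlib.RingTheory.RingHom.Surjective

/-! Unmixedness of homogeneous ideals with Gorenstein quotient and of their colon ideals. -/

universe u

open IsLocalRing

namespace GrothLib.Gor

variable {R : Type u} [CommRing R] [IsNoetherianRing R] (c : Ideal R) [LocCoh.IsGorensteinRing (R ⧸ c)]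

/-- If `R ⧸ c` is Gorenstein then every associated prime of `R ⧸ c` is minimal over `c`. -/
theorem mem_minimalPrimes_of_mem_associatedPrimes {P : Ideal R}
    (hP : P ∈ associatedPrimes R (R ⧸ c)) : P ∈ c.minimalPrimes := by
  haveI := hP.isPrime
  obtain ⟨-, x, hx⟩ := isAssociatedPrime_iff.1 hP
  have hcP : c ≤ P := fun y hy => by
    rw [hx, Submodule.mem_colon_singleton, Submodule.mem_bot]
    obtain ⟨x, rfl⟩ := Submodule.Quotient.mk_surjective c x
    rw [← Submodule.Quotient.mk_smul, Submodule.Quotient.mk_eq_zero]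
    exact c.mul_mem_right x hy
  have hk : RingHom.ker (Ideal.Quotient.mk c) ≤ P := by rwa [Ideal.mk_ker]
  haveI : (P.map (Ideal.Quotient.mk c)).IsPrime :=
    Ideal.map_isPrime_of_surjective Ideal.Quotient.mk_surjective hk
  have hQ : P.map (Ideal.Quotient.mk c) ∈ associatedPrimes (R ⧸ c) (R ⧸ c) := by
    refine isAssociatedPrime_iff.2 ⟨inferInstance, x, ?_⟩
    ext b
    obtain ⟨r, rfl⟩ := Ideal.Quotient.mk_surjective b
    rw [← Ideal.mem_comap, GrothLib.Faltings.comap_map_eq Ideal.Quotient.mk_surjective hk, hx,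
      Submodule.mem_colon_singleton, Submodule.mem_colon_singleton, Submodule.mem_bot, Submodule.mem_bot]
    rfl
  have h0 := height_eq_zero_of_mem_associatedPrimes hQ
  rw [Ideal.height_eq_zero_iff] at h0
  refine ⟨⟨inferInstance, hcP⟩, fun Q hQ' hQP => ?_⟩
  haveI := hQ'.1
  have hkQ : RingHom.ker (Ideal.Quotient.mk c) ≤ Q := by rw [Ideal.mk_ker]; exact hQ'.2
  haveI : (Q.map (Ideal.Quotient.mk c)).IsPrime :=
    Ideal.map_isPrime_of_surjective Ideal.Quotient.mk_surjective hkQ
  have h1 := Ideal.comap_mono (f := Ideal.Quotient.mk c) (h0.2 ⟨inferInstance, bot_le⟩ (Ideal.map_mono hQP))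
  rwa [GrothLib.Faltings.comap_map_eq Ideal.Quotient.mk_surjective hk,
    GrothLib.Faltings.comap_map_eq Ideal.Quotient.mk_surjective hkQ] at h1

theorem le_colon (I : Ideal R) : c ≤ c.colon (I : Set R) :=
  fun y hy => Submodule.mem_colon.2 fun z _ => c.mul_mem_right z hy

/-- Every associated prime of `R ⧸ (c : I)` is minimal over `c`. -/
theorem mem_minimalPrimes_of_mem_associatedPrimes_colon (I : Ideal R) {p : Ideal R}
    (hp : p ∈ associatedPrimes R (R ⧸ c.colon (I : Set R))) : p ∈ c.minimalPrimes := by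
  haveI := hp.isPrime
  obtain ⟨-, x, hx⟩ := isAssociatedPrime_iff.1 hp
  obtain ⟨x, rfl⟩ := Submodule.Quotient.mk_surjective (c.colon (I : Set R)) x
  have hcp : c ≤ p := fun y hy => by
    rw [hx, Submodule.mem_colon_singleton, Submodule.mem_bot, ← Submodule.Quotient.mk_smul,
      Submodule.Quotient.mk_eq_zero]
    exact le_colon c I (c.mul_mem_right x hy)
  have hxne : x ∉ c.colon (I : Set R) := fun h => hp.isPrime.ne_top (by
    rw [hx, (Submodule.Quotient.mk_eq_zero _).2 h, eq_top_iff]
    intro r _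
    rw [Submodule.mem_colon_singleton, smul_zero]
    exact zero_mem _)
  have hsub : (p : Set R) ⊆ ⋃ P ∈ associatedPrimes R (R ⧸ c), (P : Set R) := fun r hr => by
    rw [biUnion_associatedPrimes_eq_zero_divisors]
    rw [SetLike.mem_coe, hx, Submodule.mem_colon_singleton, Submodule.mem_bot, ← Submodule.Quotient.mk_smul,
      Submodule.Quotient.mk_eq_zero] at hr
    obtain ⟨a, ha, hxa⟩ : ∃ a ∈ I, x * a ∉ c := by
      by_contra h
      exact hxne (Submodule.mem_colon.2 fun a ha => by_contra fun h' => h ⟨a, ha, h'⟩)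
    refine ⟨Submodule.Quotient.mk (x * a), fun h => hxa ((Submodule.Quotient.mk_eq_zero c).1 h), ?_⟩
    rw [← Submodule.Quotient.mk_smul, Submodule.Quotient.mk_eq_zero, smul_eq_mul, ← mul_assoc]
    exact Submodule.mem_colon.1 hr a ha
  have hfin := associatedPrimes.finite R (R ⧸ c)
  rw [← hfin.coe_toFinset] at hsub
  obtain ⟨P, hP, hle⟩ := (Ideal.subset_union_prime ⊥ ⊥
    (fun P hP _ _ => (hfin.mem_toFinset.1 hP).isPrime)).1 (by simpa using hsub)
  have hmin := mem_minimalPrimes_of_mem_associatedPrimes c (hfin.mem_toFinset.1 hP)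
  rwa [le_antisymm hle (hmin.2 ⟨inferInstance, hcp⟩ hle)]

omit [IsNoetherianRing R] in
/-- In the localization at a prime `m`, all minimal primes of `c` below `m` have the same height. -/
theorem exists_height_of_minimalPrimes_le (m : Ideal R) [m.IsPrime] (hcm : c ≤ m)
    [LocCoh.IsCohenMacaulayLocalRing (Localization.AtPrime m)] :
    ∃ g : ℕ, ∀ P ∈ c.minimalPrimes, P ≤ m → P.height = g := by
  haveI : IsNoetherianRing (Localization.AtPrime m) := inferInstance
  have hk : RingHom.ker (Ideal.Quotient.mk c) ≤ m := by rwa [Ideal.mk_ker]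
  let mb := m.map (Ideal.Quotient.mk c)
  haveI hmb : mb.IsPrime := Ideal.map_isPrime_of_surjective Ideal.Quotient.mk_surjective hk
  have hcm' : m = mb.comap (Ideal.Quotient.mk c) :=
    (GrothLib.Faltings.comap_map_eq Ideal.Quotient.mk_surjective hk).symm
  let L := Localization.AtPrime m
  let A := Localization.AtPrime mb
  haveI := LocCoh.IsGorensteinRing.isGorensteinLocalRing_localization mb
  obtain ⟨d, hd, hdep, -⟩ := exists_dim A
  let ψ : L →+* A := Localization.localRingHom m mb (Ideal.Quotient.mk c) hcm'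
  have hψ : Function.Surjective ψ :=
    (RingHom.surjectiveOnStalks_of_surjective Ideal.Quotient.mk_surjective).localRingHom_surjective _ _ hcm'
  obtain ⟨N, hN⟩ : ∃ N : ℕ, ringKrullDim L = N := by
    obtain ⟨e, he⟩ := WithBot.ne_bot_iff_exists.1
      (ne_bot_of_le_ne_bot (WithBot.coe_ne_bot (a := (0 : ℕ∞))) (ringKrullDim_nonneg_of_nontrivial (R := L)))
    obtain ⟨N, rfl⟩ := ENat.ne_top_iff_exists.1 (fun h : e = ⊤ => by
      have := (ringKrullDim_lt_top (R := L))
      rw [← he, h] at this
      exact lt_irrefl _ this)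
    exact ⟨N, he.symm⟩
  refine ⟨N - d, fun P hP hPm => ?_⟩
  haveI := hP.1.1
  have hdisj : Disjoint (m.primeCompl : Set R) (P : Set R) :=
    Set.disjoint_left.2 fun x hx hxP => hx (hPm hxP)
  let PL := P.map (algebraMap R L)
  haveI : PL.IsPrime := IsLocalization.isPrime_of_isPrime_disjoint m.primeCompl L P inferInstance hdisj
  have hPL : PL.comap (algebraMap R L) = P :=
    IsLocalization.comap_map_of_isPrime_disjoint m.primeCompl L inferInstance hdisj
  have hcomm : ψ.comp (algebraMap R L) = (algebraMap (R ⧸ c) A).comp (Ideal.Quotient.mk c) :=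
    RingHom.ext fun x => Localization.localRingHom_to_map m mb _ hcm' x
  have hker : RingHom.ker ψ ≤ PL := by
    intro z hz
    obtain ⟨⟨r, s⟩, hs⟩ := IsLocalization.surj m.primeCompl z
    have h1 : algebraMap (R ⧸ c) A (Ideal.Quotient.mk c r) = 0 := by
      rw [← RingHom.comp_apply, ← hcomm, RingHom.comp_apply, ← hs, map_mul, RingHom.mem_ker.1 hz, zero_mul]
    obtain ⟨⟨t, ht⟩, htr⟩ := (IsLocalization.map_eq_zero_iff mb.primeCompl A _).1 h1
    obtain ⟨t, rfl⟩ := Ideal.Quotient.mk_surjective t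
    have h2 : t * r ∈ c := by
      rw [← Ideal.Quotient.eq_zero_iff_mem, map_mul]; exact htr
    have h3 : r ∈ P := (‹P.IsPrime›.mem_or_mem (hP.1.2 h2)).resolve_left fun h =>
      ht (Ideal.mem_map_of_mem _ (hPm h))
    have h4 : z * algebraMap R L s ∈ PL := hs ▸ Ideal.mem_map_of_mem _ h3
    exact (Ideal.IsPrime.mem_or_mem ‹PL.IsPrime› h4).resolve_right fun h =>
      (‹PL.IsPrime›.ne_top) (Ideal.eq_top_of_isUnit_mem _ h (IsLocalization.map_units L s))
  let Q := PL.map ψ
  haveI : Q.IsPrime := Ideal.map_isPrime_of_surjective hψ hker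
  have hQ : Q.comap ψ = PL := GrothLib.Faltings.comap_map_eq hψ hker
  have hQmin : Q ∈ minimalPrimes A := by
    refine ⟨⟨inferInstance, bot_le⟩, fun Q' hQ' hle => ?_⟩
    haveI := hQ'.1
    have h1 : (Q'.comap ψ).comap (algebraMap R L) ≤ P :=
      (Ideal.comap_mono (Ideal.comap_mono hle)).trans_eq (by rw [hQ, hPL])
    have h2 : c ≤ (Q'.comap ψ).comap (algebraMap R L) := fun y hy => by
      rw [Ideal.mem_comap, Ideal.mem_comap, ← RingHom.comp_apply, hcomm, RingHom.comp_apply,
        Ideal.Quotient.eq_zero_iff_mem.2 hy, map_zero]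
      exact zero_mem _
    have h3 : PL ≤ Q'.comap ψ := Ideal.map_le_iff_le_comap.2 (hP.2 ⟨inferInstance, h2⟩ h1)
    exact Ideal.map_le_iff_le_comap.2 h3
  have hQass : Q ∈ associatedPrimes A A :=
    Module.associatedPrimes.minimalPrimes_annihilator_subset_associatedPrimes A A
      (by rwa [Module.annihilator_eq_bot.2 inferInstance])
  have hdQ : ringKrullDim (A ⧸ Q) = d := by
    refine le_antisymm (hd ▸ ringKrullDim_quotient_le Q) ?_
    have := GrothLib.Depth.depth_le_dim_quotient hQass
    rw [hdep] at this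
    exact this
  have hdL : ringKrullDim (L ⧸ PL) = d := by
    rw [← hdQ]
    refine (ringKrullDim_eq_of_ringEquiv
      (RingEquiv.ofBijective (Ideal.quotientMap Q ψ hQ.ge) ⟨?_, ?_⟩))
    · exact Ideal.quotientMap_injective' hQ.le
    · exact Ideal.quotientMap_surjective hψ
  obtain ⟨g, hg⟩ := ENat.ne_top_iff_exists.1 (Ideal.height_ne_top (I := PL) ‹PL.IsPrime›.ne_top)
  have h := GrothLib.CanonMod.height_add_dim_quotient PL ‹PL.IsPrime›.ne_top hg.symm hdL hN
  rw [← hPL, IsLocalization.height_comap m.primeCompl, ← hg]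
  exact_mod_cast (show g = N - d by omega)

end GrothLib.Gor
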