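import Groth.Agent.Lib.Gor.Concentrated
import Groth.Agent.Lib.InjMod.Matlis
import Groth.Agent.Lib.FiniteLengthSupp
import Mathlib.RingTheory.KrullDimension.Regular

/-! In a Gorenstein local ring `Ext^d(k, A)` has length one and `H^d_m(A)` is the injective hull of `k`. -/

universe u

open CategoryTheory Abelian IsLocalRing RingTheory.Sequence

namespace GrothLib.Gor

section Quot

variable {A : Type u} [CommRing A]

local notation "AA" => ModuleCat.of A A

/-- Pullback of classes as a linear map. -/
noncomputable def precompLM {X Y : ModuleCat.{u} A} (f : X ⟶ Y) (i : ℕ) : Ext Y AA i →ₗ[A] Ext X AA i where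
  toFun e := (Ext.mk₀ f).comp e (zero_add i)
  map_add' a b := Ext.comp_add _ _ _ _
  map_smul' r a := Ext.comp_smul _ _ _ _

theorem precompLM_bijective_of_iso {X Y : ModuleCat.{u} A} (e : X ≅ Y) (i : ℕ) :
    Function.Bijective (precompLM e.hom i) := by
  refine Function.bijective_iff_has_inverse.2 ⟨precompLM e.inv i, fun x => ?_, fun x => ?_⟩
  · simp [precompLM]
  · simp [precompLM]

/-- `Ext(A/(rs), A)` vanishes above the length and is cyclic in that degree. -/
theorem ext_quotient_ofList (rs : List A) : IsWeaklyRegular A rs →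
    (∀ i, rs.length < i → Subsingleton (Ext (ModuleCat.of A (A ⧸ Ideal.ofList rs)) AA i)) ∧
      ∃ g : Ext (ModuleCat.of A (A ⧸ Ideal.ofList rs)) AA rs.length,
        ∀ e, ∃ r : A, r • g = e := by
  induction rs using List.reverseRecOn with
  | nil =>
    intro _
    let E : (A ⧸ Ideal.ofList ([] : List A)) ≃ₗ[A] A :=
      Submodule.quotEquivOfEqBot (Ideal.ofList ([] : List A)) (Ideal.ofList_nil)
    haveI : Module.Projective A (A ⧸ Ideal.ofList ([] : List A)) := Module.Projective.of_equiv E.symm
    haveI : Projective (ModuleCat.of A (A ⧸ Ideal.ofList ([] : List A))) :=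
      (IsProjective.iff_projective (R := A) _).1 inferInstance
    refine ⟨fun i hi => ?_, Ext.mk₀ (ModuleCat.ofHom E.toLinearMap), fun e => ?_⟩
    · obtain ⟨j, rfl⟩ := Nat.exists_eq_succ_of_ne_zero (show i ≠ 0 by simp at hi; omega)
      exact Ext.subsingleton_of_projective _ _ j
    · obtain ⟨f, rfl⟩ := (Ext.mk₀_bijective _ _).2 e
      refine ⟨f.hom (E.symm 1), ?_⟩
      rw [← Ext.mk₀_smul]
      congr 1
      refine ModuleCat.hom_ext (LinearMap.ext fun z => ?_)
      show f.hom (E.symm 1) • E z = f.hom z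
      rw [smul_eq_mul, mul_comm, ← smul_eq_mul, ← map_smul, ← map_smul, smul_eq_mul, mul_one,
        LinearEquiv.symm_apply_apply]
  | append_singleton ys x ih =>
    intro h
    rw [isWeaklyRegular_append_iff, isWeaklyRegular_singleton_iff,
      isSMulRegular_quotient_iff_mem_of_smul_mem] at h
    simp only [smul_eq_mul, Ideal.mul_top] at h
    rw [List.length_append, List.length_singleton, Ideal.ofList_append, Ideal.ofList_singleton]
    have ih' := ih h.1
    clear ih
    set I := Ideal.ofList ys
    obtain ⟨hvan, g, hg⟩ := ih'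
    let S : ShortComplex (ModuleCat.{u} A) :=
      ShortComplex.mk (X₁ := ModuleCat.of A (A ⧸ I)) (X₂ := ModuleCat.of A (A ⧸ I))
        (X₃ := ModuleCat.of A (A ⧸ (I ⊔ Ideal.span {x})))
        (x • 𝟙 _) (ModuleCat.ofHom (Submodule.factor le_sup_left))
        (ModuleCat.hom_ext (LinearMap.ext fun z => by
          obtain ⟨z, rfl⟩ := Submodule.Quotient.mk_surjective _ z
          exact (Submodule.Quotient.mk_eq_zero _).2 (Ideal.mem_sup_right
            (Ideal.mul_mem_right z _ (Ideal.mem_span_singleton_self x)))))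
    have hS : S.ShortExact :=
      { exact := (ShortComplex.moduleCat_exact_iff _).2 fun z hz => by
          obtain ⟨z, rfl⟩ := Submodule.Quotient.mk_surjective _ z
          obtain ⟨a, ha, b, hb, rfl⟩ := Submodule.mem_sup.1 ((Submodule.Quotient.mk_eq_zero _).1 hz)
          obtain ⟨c, rfl⟩ := Ideal.mem_span_singleton'.1 hb
          refine ⟨Submodule.Quotient.mk c, ?_⟩
          refine (Submodule.Quotient.eq _).2 ?_
          show x * c - (a + c * x) ∈ I
          rw [mul_comm x c, sub_add_cancel_right]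
          exact neg_mem ha
        mono_f := (ModuleCat.mono_iff_injective _).2 ((injective_iff_map_eq_zero _).2 fun z hz => by
          obtain ⟨z, rfl⟩ := Submodule.Quotient.mk_surjective _ z
          exact (Submodule.Quotient.mk_eq_zero _).2 (h.2 z ((Submodule.Quotient.mk_eq_zero _).1 hz)))
        epi_g := (ModuleCat.epi_iff_surjective _).2 (Submodule.factor_surjective le_sup_left) }
    constructor
    · intro i hi
      obtain ⟨j, rfl⟩ := Nat.exists_eq_succ_of_ne_zero (show i ≠ 0 by omega)
      refine subsingleton_of_forall_eq 0 fun e => ?_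
      haveI h2 : Subsingleton (Ext S.X₂ AA (j + 1)) := hvan (j + 1) (by omega)
      haveI h1 : Subsingleton (Ext S.X₁ AA j) := hvan j (by omega)
      obtain ⟨y, hy⟩ := Ext.contravariant_sequence_exact₃ hS AA (n₀ := j) e (h2.elim _ _) (add_comm 1 j)
      rw [← hy, h1.elim y 0, Ext.comp_zero]
    · refine ⟨hS.extClass.comp g (add_comm 1 _), fun e => ?_⟩
      haveI h2 : Subsingleton (Ext S.X₂ AA (ys.length + 1)) := hvan _ (by omega)
      obtain ⟨y, rfl⟩ := Ext.contravariant_sequence_exact₃ hS AA (n₀ := ys.length) e (h2.elim _ _)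
        (add_comm 1 ys.length)
      obtain ⟨r, rfl⟩ := hg y
      exact ⟨r, (Ext.comp_smul _ _ _ _).symm⟩

end Quot

variable {A : Type u} [CommRing A] [IsNoetherianRing A] [IsLocalRing A] {d : ℕ}
variable (hE : ∀ i, i ≠ d → Subsingleton (Ext (ModuleCat.of A (A ⧸ maximalIdeal A)) (ModuleCat.of A A) i))

local notation "AA" => ModuleCat.of A A

include hE

theorem length_ext_of_isFiniteLength {X : Type u} [AddCommGroup X] [Module A X] (hX : IsFiniteLength A X) :
    (∀ i, i ≠ d → Subsingleton (Ext (ModuleCat.of A X) AA i)) ∧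
      Module.length A (Ext (ModuleCat.of A X) AA d) =
        Module.length A X * Module.length A (Ext (ModuleCat.of A (A ⧸ maximalIdeal A)) AA d) := by
  induction hX with
  | @of_subsingleton M _ _ _ =>
    haveI : ∀ i, Subsingleton (Ext (ModuleCat.of A M) AA i) := fun i => subsingleton_of_forall_eq 0 fun e => by
      rw [← Ext.mk₀_id_comp e, show 𝟙 (ModuleCat.of A M) = 0 from
        ModuleCat.hom_ext (LinearMap.ext fun _ => Subsingleton.elim _ _), Ext.mk₀_zero, Ext.zero_comp]
    refine ⟨fun i _ => this i, ?_⟩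
    rw [Module.length_eq_zero_iff.2 (this d), Module.length_eq_zero_iff.2 ‹Subsingleton M›, zero_mul]
  | @of_simple_quotient M _ _ N _ hN ih =>
    obtain ⟨I, hI, ⟨e⟩⟩ := isSimpleModule_iff_quot_maximal.1 ‹IsSimpleModule A (M ⧸ N)›
    obtain rfl := IsLocalRing.eq_maximalIdeal hI
    have hq : ∀ i, i ≠ d → Subsingleton (Ext (ModuleCat.of A (M ⧸ N)) AA i) := fun i hi =>
      haveI := hE i hi
      (Equiv.ofBijective _ (precompLM_bijective_of_iso e.toModuleIso i)).symm.subsingleton
    let S : ShortComplex (ModuleCat.{u} A) := ShortComplex.mk (ModuleCat.ofHom N.subtype)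
      (ModuleCat.ofHom N.mkQ) (ModuleCat.hom_ext (LinearMap.ext fun x =>
        (Submodule.Quotient.mk_eq_zero N).2 x.2))
    have hS : S.ShortExact :=
      { exact := (ShortComplex.moduleCat_exact_iff _).2 fun x hx =>
          ⟨⟨x, (Submodule.Quotient.mk_eq_zero N).1 hx⟩, rfl⟩
        mono_f := (ModuleCat.mono_iff_injective _).2 N.injective_subtype
        epi_g := (ModuleCat.epi_iff_surjective _).2 N.mkQ_surjective }
    refine ⟨fun i hi => subsingleton_of_forall_eq 0 fun x => ?_, ?_⟩
    · obtain ⟨y, hy⟩ := Ext.contravariant_sequence_exact₂ hS AA x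
        (@Subsingleton.elim _ (ih.1 i hi) _ _)
      rw [← hy, @Subsingleton.elim _ (hq i hi) y 0, Ext.comp_zero]
    · have hinj : Function.Injective (precompLM S.g d) := by
        rw [injective_iff_map_eq_zero]
        intro x hx
        rcases d with - | c
        · obtain ⟨f, rfl⟩ := (Ext.mk₀_bijective _ _).2 x
          change (Ext.mk₀ S.g).comp (Ext.mk₀ f) (zero_add 0) = 0 at hx
          rw [Ext.mk₀_comp_mk₀, Ext.mk₀_eq_zero_iff] at hx
          rw [Ext.mk₀_eq_zero_iff]
          haveI := hS.epi_g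
          exact (cancel_epi S.g).1 (hx.trans Limits.comp_zero.symm)
        · obtain ⟨y, hy⟩ := Ext.contravariant_sequence_exact₃ hS AA (n₀ := c) x hx (add_comm 1 c)
          rw [← hy, @Subsingleton.elim _ (ih.1 c (by omega)) y 0, Ext.comp_zero]
      have hsurj : Function.Surjective (precompLM S.f d) := fun x => by
        obtain ⟨y, hy⟩ := Ext.contravariant_sequence_exact₁ hS AA (n₁ := d + 1) x (add_comm 1 d)
          (@Subsingleton.elim _ (hq (d + 1) (by omega)) _ _)
        exact ⟨y, hy⟩
      have hex : Function.Exact (precompLM S.g d) (precompLM S.f d) := fun x => by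
        constructor
        · exact fun hx => Ext.contravariant_sequence_exact₂ hS AA x hx
        · rintro ⟨y, rfl⟩
          show (Ext.mk₀ S.f).comp ((Ext.mk₀ S.g).comp y (zero_add d)) (zero_add d) = 0
          rw [Ext.mk₀_comp_mk₀_assoc, S.zero, Ext.mk₀_zero, Ext.zero_comp]
      rw [Module.length_eq_add_of_exact (R := A) (N := Ext (ModuleCat.of A (M ⧸ N)) AA d)
          (M := Ext (ModuleCat.of A M) AA d) (P := Ext (ModuleCat.of A N) AA d) _ _ hinj hsurj hex, ih.2,
        ← (LinearEquiv.ofBijective _ (precompLM_bijective_of_iso e.toModuleIso d)).length_eq,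
        Module.length_eq_add_of_exact N.subtype N.mkQ N.injective_subtype N.mkQ_surjective
          (LinearMap.exact_subtype_mkQ N), Module.length_eq_one A (M ⧸ N), add_mul, one_mul, add_comm]

omit hE

variable (A) [LocCoh.IsGorensteinLocalRing A]

/-- The degree `d` and the facts about it. -/
theorem length_ext_residue (hd : ringKrullDim A = d) :
    (∀ i, i ≠ d → Subsingleton (Ext (ModuleCat.of A (A ⧸ maximalIdeal A)) AA i)) ∧
      Module.length A (Ext (ModuleCat.of A (A ⧸ maximalIdeal A)) AA d) = 1 := by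
  obtain ⟨d', hd', hdep, hE, hne⟩ := exists_dim A
  obtain rfl : d' = d := by rw [hd'] at hd; exact_mod_cast hd
  refine ⟨hE, ?_⟩
  have hne' : (maximalIdeal A) ≠ ⊤ := (maximalIdeal.isMaximal A).ne_top
  obtain ⟨rs, hlen, hmem, hreg⟩ :=
    (GrothLib.Depth.le_idealDepth_iff_exists _ (GrothLib.Depth.smul_top_ne_top hne') d').1 hdep.ge
  haveI := GrothLib.Depth.nontrivial_quotient_ofList (M := A) rs hmem
  have hdim := Module.supportDim_add_length_eq_supportDim_of_isRegular rs
    (⟨hreg, (Submodule.Quotient.nontrivial_iff.1 this).symm⟩ : IsRegular A rs)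
  rw [Module.supportDim_self_eq_ringKrullDim, hd', hlen] at hdim
  have hI : (Ideal.ofList rs • ⊤ : Submodule A A) = Ideal.ofList rs := by rw [smul_eq_mul, Ideal.mul_top]
  have e := Submodule.quotEquivOfEq _ _ hI
  rw [Module.supportDim_eq_of_equiv e] at hdim
  have h0 : Module.supportDim A (A ⧸ Ideal.ofList rs) ≤ 0 := by
    generalize Module.supportDim A (A ⧸ Ideal.ofList rs) = a at hdim ⊢
    induction a with
    | bot => exact bot_le
    | coe a =>
      induction a using ENat.recTopCoe with
      | top =>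
        exfalso
        rw [← WithBot.coe_natCast, ← WithBot.coe_add, WithBot.coe_inj, top_add] at hdim
        exact ENat.natCast_ne_top _ hdim.symm
      | coe a =>
        have : a + d' = d' := by exact_mod_cast hdim
        exact_mod_cast (show a ≤ 0 by omega)
  have hfl : IsFiniteLength A (A ⧸ Ideal.ofList rs) :=
    Module.length_ne_top_iff.1 (GrothLib.FiniteLengthSupp.length_lt_top h0).ne
  haveI : Nontrivial (A ⧸ Ideal.ofList rs) := e.symm.toEquiv.nontrivial
  have hlenD : Module.length A (Ext (ModuleCat.of A (A ⧸ Ideal.ofList rs)) AA d') ≤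
      Module.length A (A ⧸ Ideal.ofList rs) := by
    obtain ⟨-, g, hg⟩ := ext_quotient_ofList rs hreg
    subst hlen
    refine Module.length_le_of_surjective ((Ideal.ofList rs).liftQ (LinearMap.toSpanSingleton A _ g)
      fun a ha => smul_eq_zero_of_source (fun x => ?_) g) fun y => ?_
    · obtain ⟨x, rfl⟩ := Submodule.Quotient.mk_surjective _ x
      exact (Submodule.Quotient.mk_eq_zero _).2 (Ideal.mul_mem_right x _ ha)
    · obtain ⟨r, hr⟩ := hg y
      exact ⟨Submodule.Quotient.mk r, hr⟩
  rw [(length_ext_of_isFiniteLength hE hfl).2] at hlenD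
  obtain ⟨ℓ, hℓ⟩ := ENat.ne_top_iff_exists.1 (Module.length_ne_top_iff.2 hfl)
  have hℓ0 : ℓ ≠ 0 := fun h => not_subsingleton (A ⧸ Ideal.ofList rs)
    (Module.length_eq_zero_iff.1 (by rw [← hℓ, h]; rfl))
  rw [← hℓ] at hlenD
  generalize hr : Module.length A (Ext (ModuleCat.of A (A ⧸ maximalIdeal A)) AA d') = r at hlenD ⊢
  have hr0 : r ≠ 0 := fun h => hne (Module.length_eq_zero_iff.1 (hr.trans h))
  induction r using ENat.recTopCoe with
  | top =>
    rw [ENat.mul_top (by exact_mod_cast hℓ0)] at hlenD
    exact absurd (top_le_iff.1 hlenD) (ENat.natCast_ne_top _)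
  | coe r =>
    have h1 : ℓ * r ≤ ℓ * 1 := by rw [mul_one]; exact_mod_cast hlenD
    have h2 : r ≤ 1 := Nat.le_of_mul_le_mul_left h1 (Nat.pos_of_ne_zero hℓ0)
    have h3 : r ≠ 0 := fun h => hr0 (by rw [h]; rfl)
    exact_mod_cast (show r = 1 by omega)

/-- `H^d_m(A)` is an injective hull of the residue field. -/
theorem exists_isInjectiveHull (hd : ringKrullDim A = d) :
    ∃ g : ResidueField A →ₗ[A] (localCohomology (maximalIdeal A) d).obj AA, InjHull.IsInjectiveHull g := by
  obtain ⟨hE, h1⟩ := length_ext_residue A hd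
  let H := (localCohomology (maximalIdeal A) d).obj AA
  haveI : IsSimpleModule A (A ⧸ maximalIdeal A) :=
    isSimpleModule_iff_isCoatom.2 (Ideal.isMaximal_def.1 (maximalIdeal.isMaximal A))
  have hsoc : IsSimpleModule A (LocCoh.torsionBy (maximalIdeal A) H) := by
    let q : (A ⧸ maximalIdeal A ^ 1) ≃ₗ[A] A ⧸ maximalIdeal A := Submodule.quotEquivOfEq _ _ (pow_one _)
    have hq : Module.length A (Ext (LC.quotPow (maximalIdeal A) 1) AA d) = 1 :=
      ((LinearEquiv.ofBijective _ (precompLM_bijective_of_iso q.toModuleIso d)).length_eq).symm.trans h1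
    have hrange : LinearMap.range (LC.toH (maximalIdeal A) d 1 AA) = LocCoh.torsionBy (maximalIdeal A) H := by
      refine le_antisymm ?_ fun h hh => ?_
      · rintro _ ⟨e, rfl⟩
        refine (Submodule.mem_torsionBySet_iff _ _).2 fun a => ?_
        rw [← map_smul, LC.smul_ext_quotPow_eq_zero _ e (by rw [pow_one]; exact a.2), map_zero]
      · exact exists_of_killed hE h fun a ha =>
          (Submodule.mem_torsionBySet_iff _ _).1 hh ⟨a, by rwa [pow_one] at ha⟩
    rw [← hrange, ← Module.length_eq_one_iff, ← hq]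
    exact (LinearEquiv.ofInjective _ (toH_injective hE 1)).length_eq.symm
  obtain ⟨I, hI, ⟨e⟩⟩ := isSimpleModule_iff_quot_maximal.1 hsoc
  obtain rfl := IsLocalRing.eq_maximalIdeal hI
  refine ⟨(LocCoh.torsionBy (maximalIdeal A) H).subtype ∘ₗ e.symm.toLinearMap,
    { injective := ?_, essential := fun N hN => ?_, isInjective := injective_localCohomology hE }⟩
  · exact Subtype.val_injective.comp e.symm.injective
  · obtain ⟨x, hx, hx0⟩ := N.ne_bot_iff.1 hN
    obtain ⟨a, ha, ha0⟩ := GrothLib.Matlis.exists_smul_mem_socle (LC.isPowerTorsion (maximalIdeal A) d AA) hx0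
    refine (Submodule.ne_bot_iff _).2 ⟨a • x, ⟨N.smul_mem a hx, ⟨e ⟨_, ha⟩, ?_⟩⟩, ha0⟩
    show ((e.symm (e ⟨a • x, ha⟩) : LocCoh.torsionBy (maximalIdeal A) H) : H) = a • x
    rw [LinearEquiv.symm_apply_apply]

end GrothLib.Gor
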