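import Groth.Agent.Lib.Gor.Basic
import Groth.Agent.Lib.Faltings.Transfer

/-! Gorenstein rings have no embedded primes; double annihilators in dimension zero. -/

universe u

open CategoryTheory IsLocalRing Abelian

namespace GrothLib.Gor

theorem height_eq_zero_of_mem_associatedPrimes {A : Type u} [CommRing A] [LocCoh.IsGorensteinRing A]
    {P : Ideal A} (hP : P ∈ associatedPrimes A A) : P.height = 0 := by
  haveI := hP.isPrime
  haveI := LocCoh.IsGorensteinRing.isGorensteinLocalRing_localization P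
  have h := GrothLib.Faltings.depth_eq_zero_of_mem_associatedPrimes hP
  rw [GrothLib.Depth.depth_localization_self] at h
  obtain ⟨d, hd, hdep, -⟩ := exists_dim (Localization.AtPrime P)
  rw [h] at hdep
  have h2 := IsLocalization.AtPrime.ringKrullDim_eq_height P (Localization.AtPrime P)
  rw [hd, show (d : ℕ) = 0 by exact_mod_cast hdep.symm] at h2
  exact_mod_cast h2.symm

theorem mem_of_mul_annihilator {A : Type u} [CommRing A] [LocCoh.IsGorensteinLocalRing A]
    (hd : ringKrullDim A = 0) (K : Ideal A) (x : A)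
    (h : ∀ a : A, (∀ k ∈ K, a * k = 0) → a * x = 0) : x ∈ K := by
  by_contra hx
  obtain ⟨d, hd', -, habove, hne⟩ := exists_dim A
  obtain rfl : d = 0 := by rw [hd] at hd'; exact_mod_cast hd'.symm
  haveI hid : HasInjectiveDimensionLT (ModuleCat.of A A) 1 :=
    hasInjectiveDimensionLT_of_residue (ModuleCat.of A A) fun i hi => habove i (by omega)
  haveI : Injective (ModuleCat.of A A) := injective_iff_hasInjectiveDimensionLT_one.2 hid
  haveI : Module.Injective A A := Module.injective_module_of_injective_object A A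
  obtain ⟨f, hf⟩ : ∃ f : ModuleCat.of A (A ⧸ maximalIdeal A) ⟶ ModuleCat.of A A, f ≠ 0 := by
    by_contra hc
    simp only [not_exists, not_not] at hc
    refine hne (subsingleton_of_forall_eq 0 fun e => ?_)
    obtain ⟨g, rfl⟩ : ∃ g, Ext.mk₀ g = e := ⟨Ext.addEquiv₀ e, Ext.addEquiv₀.symm_apply_apply e⟩
    rw [hc g, Ext.mk₀_zero]
  let e : A ⧸ K := Submodule.Quotient.mk x
  let N := Submodule.span A {e}
  have hker : LinearMap.ker (LinearMap.toSpanSingleton A (A ⧸ K) e) ≤ maximalIdeal A := by
    refine le_maximalIdeal fun htop => hx ?_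
    have h1 : (1 : A) ∈ LinearMap.ker (LinearMap.toSpanSingleton A (A ⧸ K) e) := htop ▸ Submodule.mem_top
    rw [LinearMap.mem_ker, LinearMap.toSpanSingleton_apply, one_smul] at h1
    exact (Submodule.Quotient.mk_eq_zero K).1 h1
  let iso := (LinearMap.toSpanSingleton A (A ⧸ K) e).quotKerEquivRange
  let g : LinearMap.range (LinearMap.toSpanSingleton A (A ⧸ K) e) →ₗ[A] A :=
    f.hom ∘ₗ (Submodule.factor hker) ∘ₗ iso.symm.toLinearMap
  obtain ⟨φ, hφ⟩ := Module.Injective.out (LinearMap.range (LinearMap.toSpanSingleton A (A ⧸ K) e)).subtype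
    (Submodule.injective_subtype _) g
  have hval : φ e = f.hom (Submodule.Quotient.mk 1) := by
    have h1 := hφ (iso (Submodule.Quotient.mk 1))
    rw [Submodule.subtype_apply, LinearMap.quotKerEquivRange_apply_mk, LinearMap.toSpanSingleton_apply,
      one_smul] at h1
    rw [h1]
    show f.hom (Submodule.factor hker (iso.symm (iso _))) = _
    rw [LinearEquiv.symm_apply_apply]
    rfl
  refine hf (ModuleCat.hom_ext (LinearMap.ext fun z => ?_))
  obtain ⟨z, rfl⟩ := Submodule.Quotient.mk_surjective _ z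
  have hann : ∀ k ∈ K, φ (Submodule.Quotient.mk 1) * k = 0 := fun k hk => by
    rw [mul_comm, ← smul_eq_mul, ← map_smul, ← Submodule.Quotient.mk_smul, smul_eq_mul, mul_one,
      (Submodule.Quotient.mk_eq_zero K).2 hk, map_zero]
  have h0 : φ e = 0 := by
    rw [show e = x • (Submodule.Quotient.mk 1 : A ⧸ K) by
      rw [← Submodule.Quotient.mk_smul, smul_eq_mul, mul_one], map_smul, smul_eq_mul, mul_comm]
    exact h _ hann
  have hz : (Submodule.Quotient.mk z : A ⧸ maximalIdeal A) = z • Submodule.Quotient.mk 1 := by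
    rw [← Submodule.Quotient.mk_smul, smul_eq_mul, mul_one]
  rw [hz, map_smul, ← hval, h0, smul_zero]
  rfl

end GrothLib.Gor

namespace GrothLib.Gor

variable {R : Type u} [CommRing R] [IsNoetherianRing R] (c : Ideal R) [LocCoh.IsGorensteinRing (R ⧸ c)]

theorem inf_eq_of_linked (I J : Ideal R) (hIJ : c.colon (I : Set R) = J) (hJI : c.colon (J : Set R) = I)
    (hdisj : Disjoint (associatedPrimes R (R ⧸ I)) (associatedPrimes R (R ⧸ J))) : I ⊓ J = c := by
  have hcI : c ≤ I := fun y hy => hJI ▸ Submodule.mem_colon.2 fun z _ => c.mul_mem_right z hy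
  have hcJ : c ≤ J := fun y hy => hIJ ▸ Submodule.mem_colon.2 fun z _ => c.mul_mem_right z hy
  refine le_antisymm (fun a ha => ?_) (le_inf hcI hcJ)
  by_contra hac
  let A := R ⧸ c
  obtain ⟨P, hP, hle⟩ := exists_le_isAssociatedPrime_of_isNoetherianRing A (Ideal.Quotient.mk c a : A)
    (fun h => hac (Ideal.Quotient.eq_zero_iff_mem.1 h))
  haveI := hP.isPrime
  have h0 := height_eq_zero_of_mem_associatedPrimes hP
  let P' := P.comap (Ideal.Quotient.mk c)
  have hann : ∀ y : R, y * a ∈ c → y ∈ P' := fun y hy => hle (Submodule.mem_colon_singleton.2 (by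
    rw [Submodule.mem_bot, smul_eq_mul, ← map_mul]; exact Ideal.Quotient.eq_zero_iff_mem.2 hy))
  have hmin : ∀ K : Ideal R, c ≤ K → K ≤ P' → P' ∈ associatedPrimes R (R ⧸ K) := by
    intro K hcK hKP
    refine Module.associatedPrimes.minimalPrimes_annihilator_subset_associatedPrimes R (R ⧸ K) ?_
    rw [Ideal.annihilator_quotient]
    refine ⟨⟨inferInstance, hKP⟩, fun Q hQ hQP => ?_⟩
    haveI := hQ.1
    haveI : (Q.map (Ideal.Quotient.mk c)).IsPrime := Ideal.map_isPrime_of_surjective
      Ideal.Quotient.mk_surjective (by rw [Ideal.mk_ker]; exact hcK.trans hQ.2)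
    have h1 : Q.map (Ideal.Quotient.mk c) ≤ P := Ideal.map_le_iff_le_comap.2 hQP
    rcases h1.eq_or_lt with h2 | h2
    · exact le_of_eq (by
        show P.comap _ = Q
        rw [← h2, GrothLib.Faltings.comap_map_eq Ideal.Quotient.mk_surjective
          (by rw [Ideal.mk_ker]; exact hcK.trans hQ.2)])
    · have h3 := Ideal.height_add_one_le_of_lt_of_isPrime h2
      rw [h0] at h3
      exact absurd (le_trans le_add_self h3) (by decide)
  have hI : I ≤ P' := fun y hy => hann y (by
    have h : a ∈ c.colon (I : Set R) := hIJ.symm ▸ ha.2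
    rw [mul_comm]; exact Submodule.mem_colon.1 h y hy)
  have hJ : J ≤ P' := fun y hy => hann y (by
    have h : a ∈ c.colon (J : Set R) := hJI.symm ▸ ha.1
    rw [mul_comm]; exact Submodule.mem_colon.1 h y hy)
  exact Set.disjoint_left.1 hdisj (hmin I hcI hI) (hmin J hcJ hJ)

theorem colon_colon_eq_self (I : Ideal R) (hcI : c ≤ I)
    (hht : ∀ P ∈ associatedPrimes R (R ⧸ I), P.height = c.height) :
    c.colon ((c.colon (I : Set R) : Ideal R) : Set R) = I := by
  refine le_antisymm (fun x hx => ?_) (fun x hx => Submodule.mem_colon.2 fun z hz => by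
    rw [smul_eq_mul, mul_comm]; exact Submodule.mem_colon.1 hz x hx)
  by_contra hxI
  obtain ⟨P, hP, hle⟩ := exists_le_isAssociatedPrime_of_isNoetherianRing R
    (Submodule.Quotient.mk x : R ⧸ I) (fun h => hxI ((Submodule.Quotient.mk_eq_zero I).1 h))
  haveI := hP.isPrime
  have hIP : I ≤ P := fun y hy => hle (Submodule.mem_colon_singleton.2 (by
    rw [Submodule.mem_bot, ← Submodule.Quotient.mk_smul, smul_eq_mul]
    exact (Submodule.Quotient.mk_eq_zero I).2 (I.mul_mem_right x hy)))
  have hcP : c ≤ P := hcI.trans hIP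
  have hkP : RingHom.ker (Ideal.Quotient.mk c) ≤ P := by rwa [Ideal.mk_ker]
  let A := R ⧸ c
  let Pb : Ideal A := P.map (Ideal.Quotient.mk c)
  haveI : Pb.IsPrime := Ideal.map_isPrime_of_surjective Ideal.Quotient.mk_surjective hkP
  have hcomap : Pb.comap (Ideal.Quotient.mk c) = P :=
    GrothLib.Faltings.comap_map_eq Ideal.Quotient.mk_surjective hkP
  let L := Localization.AtPrime Pb
  haveI := LocCoh.IsGorensteinRing.isGorensteinLocalRing_localization Pb
  have hh : Pb.height = 0 := by
    by_contra hne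
    obtain ⟨Q, hQ, hQP⟩ := Ideal.exists_minimalPrimes_le (I := ⊥) (J := Pb) bot_le
    haveI := hQ.isPrime
    have hlt : Q < Pb := lt_of_le_of_ne hQP fun h => hne (by
      rw [← h]
      exact Ideal.height_eq_zero_iff.2 hQ)
    haveI := Ideal.IsPrime.comap (Ideal.Quotient.mk c) (K := Q)
    have h1 : Q.comap (Ideal.Quotient.mk c) < P :=
      hcomap ▸ lt_of_le_not_ge (Ideal.comap_mono hlt.le) fun h => hlt.not_ge
        (GrothLib.Faltings.comap_le_comap_iff_of_surjective' _ Ideal.Quotient.mk_surjective _ _ h)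
    have h2 := Ideal.height_add_one_le_of_lt_of_isPrime h1
    rw [hht P hP] at h2
    have h3 : c.height ≤ (Q.comap (Ideal.Quotient.mk c)).height := Ideal.height_mono
      (le_trans (le_of_eq Ideal.mk_ker.symm) ((RingHom.ker_eq_comap_bot _).le.trans (Ideal.comap_mono bot_le)))
    have h4 : c.height ≠ ⊤ := by rw [← hht P hP]; exact Ideal.height_ne_top ‹P.IsPrime›.ne_top
    exact absurd ((add_le_add h3 le_rfl).trans h2) (not_le.2 ((ENat.lt_add_one_iff h4).2 le_rfl))
  have hdim : ringKrullDim L = 0 := by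
    rw [IsLocalization.AtPrime.ringKrullDim_eq_height Pb L, hh]
    rfl
  let ψ : R →+* L := (algebraMap A L).comp (Ideal.Quotient.mk c)
  have key : ψ x ∈ I.map ψ := by
    refine mem_of_mul_annihilator hdim _ _ fun a ha => ?_
    obtain ⟨⟨rb, s⟩, hs⟩ := IsLocalization.surj Pb.primeCompl a
    obtain ⟨r, rfl⟩ := Ideal.Quotient.mk_surjective rb
    obtain ⟨gens, hgens⟩ := (IsNoetherian.noetherian I)
    have hk : ∀ g : gens, ∃ u : R, u ∉ P ∧ u * r * g ∈ c := by
      intro g
      have h1 : algebraMap A L (Ideal.Quotient.mk c (r * g)) = 0 := by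
        rw [map_mul, map_mul, ← hs, mul_comm a, mul_assoc,
          show algebraMap A L (Ideal.Quotient.mk c (g : R)) = ψ g from rfl,
          ha _ (Ideal.mem_map_of_mem ψ (hgens ▸ Submodule.subset_span g.2)), mul_zero]
      obtain ⟨⟨ub, hub⟩, hu⟩ := (IsLocalization.map_eq_zero_iff Pb.primeCompl L _).1 h1
      obtain ⟨u, rfl⟩ := Ideal.Quotient.mk_surjective ub
      refine ⟨u, fun h => hub (Ideal.mem_map_of_mem _ h), ?_⟩
      rw [mul_assoc, ← Ideal.Quotient.eq_zero_iff_mem, map_mul]
      exact hu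
    choose u hu hug using hk
    have hcol : (∏ g, u g) * r ∈ c.colon (I : Set R) := by
      refine Submodule.mem_colon.2 fun z hz => ?_
      rw [← hgens] at hz
      refine (Submodule.span_le (p := Submodule.comap (LinearMap.mulLeft R ((∏ g, u g) * r)) c)).2 ?_ hz
      intro g hg
      show (∏ g, u g) * r * g ∈ c
      obtain ⟨d, hd⟩ := Finset.dvd_prod_of_mem u (Finset.mem_univ (⟨g, hg⟩ : gens))
      rw [hd, show u ⟨g, hg⟩ * d * r * g = d * (u ⟨g, hg⟩ * r * g) by ring]
      exact c.mul_mem_left d (hug ⟨g, hg⟩)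
    have h2 : x * ((∏ g, u g) * r) ∈ c := Submodule.mem_colon.1 hx _ hcol
    have hunit : IsUnit (ψ (∏ g, u g)) := by
      refine IsLocalization.map_units L (⟨Ideal.Quotient.mk c (∏ g, u g), fun h => ?_⟩ : Pb.primeCompl)
      obtain ⟨g, -, hg⟩ := (‹P.IsPrime›.prod_mem_iff).1 (hcomap ▸ h : (∏ g, u g) ∈ P)
      exact hu g hg
    refine hunit.mul_right_injective ((IsLocalization.map_units L s).mul_left_injective ?_)
    simp only [mul_zero, zero_mul]
    rw [show ψ (∏ g, u g) * (a * ψ x) * algebraMap A L s = ψ x * (ψ (∏ g, u g) * (a * algebraMap A L s)) by ring,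
      hs, show algebraMap A L (Ideal.Quotient.mk c r) = ψ r from rfl, ← map_mul, ← map_mul]
    show algebraMap A L (Ideal.Quotient.mk c _) = 0
    rw [Ideal.Quotient.eq_zero_iff_mem.2 h2, map_zero]
  rw [← Ideal.map_map] at key
  obtain ⟨sb, hsb, hmem⟩ := (IsLocalization.algebraMap_mem_map_algebraMap_iff Pb.primeCompl L _ _).1 key
  obtain ⟨s, rfl⟩ := Ideal.Quotient.mk_surjective sb
  refine hsb (Ideal.mem_map_of_mem _ (hle (Submodule.mem_colon_singleton.2 ?_)))
  rw [Submodule.mem_bot, ← Submodule.Quotient.mk_smul, smul_eq_mul, Submodule.Quotient.mk_eq_zero,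
    ← GrothLib.Faltings.comap_map_eq (f := Ideal.Quotient.mk c) Ideal.Quotient.mk_surjective
      (q := I) (by rw [Ideal.mk_ker]; exact hcI), Ideal.mem_comap, map_mul]
  exact hmem

end GrothLib.Gor
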