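import Groth.Agent.Lib.Gor.Basic
import Groth.Agent.Lib.LC.Zero
import Mathlib.RingTheory.Filtration
import Mathlib.Algebra.Module.Injective

/-!
When `Ext^i(k, A)` is concentrated in one degree `d`, `Ext^d(-, A)` is exact on modules killed by a
power of the maximal ideal, and `H^d_m(A)` is injective.
-/

universe u

open CategoryTheory Abelian IsLocalRing

namespace GrothLib.Gor

variable {A : Type u} [CommRing A] [IsNoetherianRing A] [IsLocalRing A] {d : ℕ}
variable (hE : ∀ i, i ≠ d → Subsingleton (Ext (ModuleCat.of A (A ⧸ maximalIdeal A)) (ModuleCat.of A A) i))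

local notation "mI" => maximalIdeal _
local notation "AA" => ModuleCat.of A A

include hE

theorem subsingleton_ext_killed {n : ℕ} (X : Type u) [AddCommGroup X] [Module A X] [Module.Finite A X]
    (hk : ∀ a ∈ maximalIdeal A ^ n, ∀ x : X, a • x = 0) {i : ℕ} (hi : i ≠ d) :
    Subsingleton (Ext (ModuleCat.of A X) AA i) :=
  (smallAt_maximal_iff (A := A) _).1 (smallAt_ext_of_forall_prime AA i _ X fun P hP => by
    have hle : maximalIdeal A ≤ P.asIdeal := Ideal.IsPrime.le_of_pow_le (n := n)
      ((show maximalIdeal A ^ n ≤ Module.annihilator A X from fun a ha =>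
        Module.mem_annihilator.2 (hk a ha)).trans (Module.mem_support_iff_of_finite.1 hP))
    rw [← (maximalIdeal.isMaximal A).eq_of_le P.2.ne_top hle]
    exact (smallAt_maximal_iff (A := A) _).2 (hE i hi))

/-- Pullback along a surjection is injective on `Ext^d(-, A)`. -/
theorem eq_zero_of_precomp_surjective {n : ℕ} {P X : ModuleCat.{u} A} [Module.Finite A P]
    (hk : ∀ a ∈ maximalIdeal A ^ n, ∀ x : P, a • x = 0) (π : P ⟶ X) (hπ : Function.Surjective π.hom)
    (e : Ext X AA d) (he : (Ext.mk₀ π).comp e (zero_add d) = 0) : e = 0 := by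
  rcases d with - | c
  · obtain ⟨f, rfl⟩ := (Ext.mk₀_bijective _ _).2 e
    rw [Ext.mk₀_comp_mk₀, Ext.mk₀_eq_zero_iff] at he
    rw [Ext.mk₀_eq_zero_iff]
    haveI : Epi π := (ModuleCat.epi_iff_surjective _).2 hπ
    exact (cancel_epi π).1 (he.trans Limits.comp_zero.symm)
  · let S : ShortComplex (ModuleCat.{u} A) := ShortComplex.mk
      (ModuleCat.ofHom (LinearMap.ker π.hom).subtype) π
      (ModuleCat.hom_ext (LinearMap.ext fun z => LinearMap.mem_ker.1 z.2))
    have hS : S.ShortExact :=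
      { exact := (ShortComplex.moduleCat_exact_iff _).2 fun z hz => ⟨⟨z, LinearMap.mem_ker.2 hz⟩, rfl⟩
        mono_f := (ModuleCat.mono_iff_injective _).2 Subtype.val_injective
        epi_g := (ModuleCat.epi_iff_surjective _).2 hπ }
    obtain ⟨y, hy⟩ := Ext.contravariant_sequence_exact₃ hS AA e he (n₀ := c) (add_comm 1 c)
    haveI := subsingleton_ext_killed hE (LinearMap.ker π.hom)
      (fun a ha z => Subtype.ext (hk a ha z.1)) (show c ≠ c + 1 by omega)
    rw [← hy, Subsingleton.elim y 0, Ext.comp_zero]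

omit hE in
theorem quotPow_killed (n : ℕ) : ∀ a ∈ maximalIdeal A ^ n, ∀ x : LC.quotPow (maximalIdeal A) n, a • x = 0 :=
  fun a ha x => by
    obtain ⟨x, rfl⟩ := Submodule.Quotient.mk_surjective _ x
    exact (Submodule.Quotient.mk_eq_zero _).2 (Ideal.mul_mem_right x _ ha)

theorem toH_injective (n : ℕ) : Function.Injective (LC.toH (maximalIdeal A) d n AA) :=
  (injective_iff_map_eq_zero _).2 fun e he => by
    obtain ⟨k, hk, h⟩ := (LC.toH_eq_zero_iff _ e).1 he
    refine eq_zero_of_precomp_surjective hE (quotPow_killed k) _ (fun z => ?_) e h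
    obtain ⟨z, rfl⟩ := Ideal.Quotient.mk_surjective z
    exact ⟨Ideal.Quotient.mk _ z, LC.quotMap_mk _ hk z⟩

omit hE in
theorem exists_smul_eq {n : ℕ} (z : LC.quotPow (maximalIdeal A) n) :
    ∃ r : A, r • LC.oneQ (maximalIdeal A) n = z := by
  obtain ⟨r, rfl⟩ := Ideal.Quotient.mk_surjective z
  exact ⟨r, LC.smul_oneQ _ r⟩

variable {n : ℕ} (X : Type u) [AddCommGroup X] [Module A X] [Module.Finite A X]
  (hk : ∀ a ∈ maximalIdeal A ^ n, ∀ x : X, a • x = 0)

/-- A class in `Ext^d(X, A)` vanishing on every element of `X` is zero. -/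
theorem eq_zero_of_forall_elem (e : Ext (ModuleCat.of A X) AA d)
    (he : ∀ x : X, (Ext.mk₀ (LC.homOfTors (maximalIdeal A) (ModuleCat.of A X)
      (fun a ha => hk a ha x))).comp e (zero_add d) = 0) : e = 0 := by
  obtain ⟨s, g, hg⟩ := Module.Finite.exists_fin (R := A) (M := X)
  let pr : ∀ j : Fin s, ModuleCat.of A (Fin s → LC.quotPow (maximalIdeal A) n) ⟶ LC.quotPow (maximalIdeal A) n :=
    fun j => ModuleCat.ofHom (LinearMap.proj j)
  let π : ModuleCat.of A (Fin s → LC.quotPow (maximalIdeal A) n) ⟶ ModuleCat.of A X :=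
    ∑ j, pr j ≫ LC.homOfTors (maximalIdeal A) (ModuleCat.of A X) (fun a ha => hk a ha (g j))
  refine eq_zero_of_precomp_surjective hE
    (P := ModuleCat.of A (Fin s → LC.quotPow (maximalIdeal A) n))
    (fun a ha z => funext fun j => quotPow_killed n a ha (z j)) π ?_ e ?_
  · rw [← LinearMap.range_eq_top, eq_top_iff, ← hg, Submodule.span_le]
    rintro _ ⟨j, rfl⟩
    classical
    refine ⟨Pi.single j (LC.oneQ _ n), ?_⟩
    simp only [π, ModuleCat.hom_sum, LinearMap.coe_sum, Finset.sum_apply]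
    rw [Finset.sum_eq_single j (fun i _ hij => ?_) (fun h => absurd (Finset.mem_univ j) h)]
    · show LC.homOfTors (maximalIdeal A) (ModuleCat.of A X) (fun a ha => hk a ha (g j))
        (Pi.single (M := fun _ => LC.quotPow (maximalIdeal A) n) j (LC.oneQ (maximalIdeal A) n) j) = _
      rw [Pi.single_eq_same]
      exact LC.homOfTors_oneQ _ _ _
    · show LC.homOfTors (maximalIdeal A) (ModuleCat.of A X) (fun a ha => hk a ha (g i))
        (Pi.single (M := fun _ => LC.quotPow (maximalIdeal A) n) j (LC.oneQ (maximalIdeal A) n) i) = _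
      rw [Pi.single_eq_of_ne hij, map_zero]
  · rw [Ext.mk₀_sum, Ext.sum_comp]
    refine Finset.sum_eq_zero fun j _ => ?_
    rw [← Ext.mk₀_comp_mk₀, Ext.comp_assoc_of_second_deg_zero, he, Ext.comp_zero]

theorem exists_of_killed {k : ℕ} (h : (localCohomology (maximalIdeal A) d).obj AA)
    (hh : ∀ a ∈ maximalIdeal A ^ k, a • h = 0) :
    ∃ e, LC.toH (maximalIdeal A) d k AA e = h := by
  obtain ⟨n, hkn, e, rfl⟩ := LC.exists_toH_ge (maximalIdeal A) h k
  let S : ShortComplex (ModuleCat.{u} A) := ShortComplex.mk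
    (ModuleCat.ofHom (LinearMap.ker (LC.quotMap (maximalIdeal A) hkn).hom).subtype)
    (LC.quotMap (maximalIdeal A) hkn)
    (ModuleCat.hom_ext (LinearMap.ext fun z => LinearMap.mem_ker.1 z.2))
  have hS : S.ShortExact :=
    { exact := (ShortComplex.moduleCat_exact_iff _).2 fun z hz => ⟨⟨z, LinearMap.mem_ker.2 hz⟩, rfl⟩
      mono_f := (ModuleCat.mono_iff_injective _).2 Subtype.val_injective
      epi_g := (ModuleCat.epi_iff_surjective _).2 fun z => by
        obtain ⟨z, rfl⟩ := Ideal.Quotient.mk_surjective z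
        exact ⟨Ideal.Quotient.mk _ z, LC.quotMap_mk _ hkn z⟩ }
  have hz : (Ext.mk₀ S.f).comp e (zero_add d) = 0 := by
    refine eq_zero_of_forall_elem hE _ (fun a ha z => Subtype.ext (quotPow_killed n a ha z.1)) _ fun z => ?_
    obtain ⟨r, hr⟩ := exists_smul_eq z.1
    have hrk : r ∈ maximalIdeal A ^ k := by
      rw [← Ideal.Quotient.eq_zero_iff_mem, ← LC.quotMap_mk (maximalIdeal A) hkn r, ← LC.smul_oneQ, hr]
      exact LinearMap.mem_ker.1 z.2
    rw [Ext.mk₀_comp_mk₀_assoc]
    have hq : LC.homOfTors (maximalIdeal A) (ModuleCat.of A _)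
        (fun a ha => Subtype.ext (quotPow_killed n a ha z.1) : ∀ a ∈ maximalIdeal A ^ n, a • z = 0) ≫ S.f =
        r • 𝟙 (LC.quotPow (maximalIdeal A) n) := by
      refine LC.hom_ext_oneQ _ _ ?_
      exact (congrArg Subtype.val (LC.homOfTors_oneQ (maximalIdeal A) (ModuleCat.of A _) _)).trans hr.symm
    rw [hq, ← LC.smul_eq_mk₀_comp]
    exact toH_injective hE n (by rw [map_smul, hh r hrk, map_zero])
  obtain ⟨y, hy⟩ := Ext.contravariant_sequence_exact₂ hS AA e hz
  exact ⟨y, by rw [← hy, LC.toH_restrict]⟩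

theorem exists_realize (h : X →ₗ[A] (localCohomology (maximalIdeal A) d).obj AA) :
    ∃ e : Ext (ModuleCat.of A X) AA d, ∀ x : X, LC.toH (maximalIdeal A) d n AA
      ((Ext.mk₀ (LC.homOfTors (maximalIdeal A) (ModuleCat.of A X)
        (fun a ha => hk a ha x))).comp e (zero_add d)) = h x := by
  obtain ⟨s, g, hg⟩ := Module.Finite.exists_fin (R := A) (M := X)
  choose ej hej using fun j : Fin s => exists_of_killed hE (h (g j))
    fun a (ha : a ∈ maximalIdeal A ^ n) => by rw [← map_smul, hk a ha, map_zero]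
  let P := ModuleCat.of A (Fin s → LC.quotPow (maximalIdeal A) n)
  let pr : ∀ j : Fin s, P ⟶ LC.quotPow (maximalIdeal A) n := fun j => ModuleCat.ofHom (LinearMap.proj j)
  let π : P ⟶ ModuleCat.of A X :=
    ∑ j, pr j ≫ LC.homOfTors (maximalIdeal A) (ModuleCat.of A X) (fun a ha => hk a ha (g j))
  let eP : Ext P AA d := ∑ j, (Ext.mk₀ (pr j)).comp (ej j) (zero_add d)
  have hPk : ∀ a ∈ maximalIdeal A ^ n, ∀ z : P, a • z = 0 := fun a ha z =>
    funext fun j => quotPow_killed n a ha (z j)
  have hπ : ∀ (z : P) (r : Fin s → A), (∀ j, r j • LC.oneQ _ n = z j) → π z = ∑ j, r j • g j := by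
    intro z r hr
    simp only [π, ModuleCat.hom_sum, LinearMap.coe_sum, Finset.sum_apply]
    refine Finset.sum_congr rfl fun j _ => ?_
    show LC.homOfTors (maximalIdeal A) (ModuleCat.of A X) (fun a ha => hk a ha (g j)) (z j) = _
    rw [← hr j, map_smul, LC.homOfTors_oneQ]
  have hev : ∀ z : P, LC.toH (maximalIdeal A) d n AA
      ((Ext.mk₀ (LC.homOfTors (maximalIdeal A) P (fun a ha => hPk a ha z))).comp eP (zero_add d)) =
        h (π z) := by
    intro z
    choose r hr using fun j => exists_smul_eq (z j)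
    rw [Ext.comp_sum, map_sum, hπ z r hr, map_sum]
    refine Finset.sum_congr rfl fun j _ => ?_
    have hq : LC.homOfTors (maximalIdeal A) P (fun a ha => hPk a ha z) ≫ pr j =
        r j • 𝟙 (LC.quotPow (maximalIdeal A) n) := by
      refine LC.hom_ext_oneQ _ _ ?_
      exact (congrArg (fun w : P => w j) (LC.homOfTors_oneQ (maximalIdeal A) P (fun a ha => hPk a ha z))).trans (hr j).symm
    rw [Ext.mk₀_comp_mk₀_assoc, hq, ← LC.smul_eq_mk₀_comp, map_smul, hej, map_smul]
  have hsurj : Function.Surjective π.hom := fun x => by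
    have hx : x ∈ Submodule.span A (Set.range g) := hg ▸ Submodule.mem_top
    obtain ⟨r, hr⟩ := (Submodule.mem_span_range_iff_exists_fun A).1 hx
    exact ⟨fun j => r j • LC.oneQ _ n, (hπ _ r fun j => rfl).trans hr⟩
  let S : ShortComplex (ModuleCat.{u} A) := ShortComplex.mk
    (ModuleCat.ofHom (LinearMap.ker π.hom).subtype) π
    (ModuleCat.hom_ext (LinearMap.ext fun z => LinearMap.mem_ker.1 z.2))
  have hS : S.ShortExact :=
    { exact := (ShortComplex.moduleCat_exact_iff _).2 fun z hz => ⟨⟨z, LinearMap.mem_ker.2 hz⟩, rfl⟩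
      mono_f := (ModuleCat.mono_iff_injective _).2 Subtype.val_injective
      epi_g := (ModuleCat.epi_iff_surjective _).2 hsurj }
  have hz : (Ext.mk₀ S.f).comp eP (zero_add d) = 0 := by
    refine eq_zero_of_forall_elem hE _ (fun a ha z => Subtype.ext (hPk a ha z.1)) _ fun z => ?_
    refine toH_injective hE n ?_
    rw [Ext.mk₀_comp_mk₀_assoc, map_zero]
    have hq : LC.homOfTors (maximalIdeal A) (ModuleCat.of A _)
        (fun a ha => Subtype.ext (hPk a ha z.1) : ∀ a ∈ maximalIdeal A ^ n, a • z = 0) ≫ S.f =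
        LC.homOfTors (maximalIdeal A) P (fun a ha => hPk a ha z.1) := by
      refine LC.hom_ext_oneQ _ _ ?_
      exact (congrArg Subtype.val (LC.homOfTors_oneQ (maximalIdeal A) (ModuleCat.of A _) _)).trans
        (LC.homOfTors_oneQ (maximalIdeal A) P _).symm
    rw [hq, hev, LinearMap.mem_ker.1 z.2, map_zero]
  obtain ⟨e, he⟩ := Ext.contravariant_sequence_exact₂ hS AA eP hz
  refine ⟨e, fun x => ?_⟩
  obtain ⟨z, rfl⟩ := hsurj x
  rw [← hev z, ← he, Ext.mk₀_comp_mk₀_assoc]
  congr 3
  refine LC.hom_ext_oneQ _ _ ?_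
  exact (LC.homOfTors_oneQ (maximalIdeal A) (ModuleCat.of A X) _).trans
    (congrArg π.hom (LC.homOfTors_oneQ (maximalIdeal A) P _)).symm

omit X hk

/-- `H^d_m(A)` is injective. -/
theorem injective_localCohomology :
    Module.Injective A ((localCohomology (maximalIdeal A) d).obj AA) := by
  refine Module.Baer.injective fun I g => ?_
  haveI : Module.Finite A I := inferInstance
  obtain ⟨c, hc⟩ : ∃ c, ∀ a ∈ maximalIdeal A ^ c, ∀ x : I, a • g x = 0 := by
    obtain ⟨s, v, hv⟩ := Module.Finite.exists_fin (R := A) (M := I)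
    choose cj hcj using fun j => LC.isPowerTorsion (maximalIdeal A) d AA (g (v j))
    refine ⟨∑ j, cj j, fun a ha x => ?_⟩
    have hx : x ∈ Submodule.span A (Set.range v) := hv ▸ Submodule.mem_top
    induction hx using Submodule.span_induction with
    | mem y hy =>
      obtain ⟨j, rfl⟩ := hy
      exact hcj j a (Ideal.pow_le_pow_right (Finset.single_le_sum (fun _ _ => Nat.zero_le _) (Finset.mem_univ j)) ha)
    | zero => rw [map_zero, smul_zero]
    | add y z _ _ hy hz => rw [map_add, smul_add, hy, hz, add_zero]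
    | smul r y _ hy => rw [map_smul, smul_comm, hy, smul_zero]
  obtain ⟨k, hk⟩ := Ideal.exists_pow_inf_eq_pow_smul (maximalIdeal A) I
  let n := k + c
  let φ : I →ₗ[A] LC.quotPow (maximalIdeal A) n := (Submodule.mkQ _).comp I.subtype
  have hker : LinearMap.ker φ ≤ LinearMap.ker g := by
    intro x hx
    have hmem : (x : A) ∈ maximalIdeal A ^ n • (⊤ : Submodule A A) ⊓ I := by
      refine ⟨?_, x.2⟩
      rw [smul_eq_mul, Ideal.mul_top]
      exact (Submodule.Quotient.mk_eq_zero _).1 hx
    rw [hk n (Nat.le_add_right k c), show n - k = c by omega] at hmem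
    have hmem' : (x : A) ∈ (maximalIdeal A ^ c • (⊤ : Submodule A I)).map I.subtype := by
      rw [Submodule.map_smul'', Submodule.map_top, Submodule.range_subtype]
      exact Submodule.smul_mono le_rfl inf_le_right hmem
    obtain ⟨y, hy, hyx⟩ := hmem'
    obtain rfl : y = x := Subtype.ext hyx
    rw [LinearMap.mem_ker]
    exact Submodule.smul_induction_on hy (fun a ha z _ => by rw [map_smul, hc a ha z])
      fun p q hp hq => by rw [map_add, hp, hq, add_zero]
  let X' := I ⧸ LinearMap.ker φ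
  have hkX : ∀ a ∈ maximalIdeal A ^ n, ∀ x : X', a • x = 0 := by
    intro a ha x
    obtain ⟨x, rfl⟩ := Submodule.Quotient.mk_surjective _ x
    rw [← Submodule.Quotient.mk_smul, Submodule.Quotient.mk_eq_zero, LinearMap.mem_ker, map_smul]
    exact quotPow_killed n a ha _
  obtain ⟨e, he⟩ := exists_realize hE X' hkX ((LinearMap.ker φ).liftQ g hker)
  let ι : X' →ₗ[A] LC.quotPow (maximalIdeal A) n := (LinearMap.ker φ).liftQ φ le_rfl
  have hι : Function.Injective ι := LinearMap.ker_eq_bot.1 (Submodule.ker_liftQ_eq_bot' _ _ rfl)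
  let S : ShortComplex (ModuleCat.{u} A) := ShortComplex.mk (X₁ := ModuleCat.of A X')
    (ModuleCat.ofHom ι) (ModuleCat.ofHom (LinearMap.range ι).mkQ) (ModuleCat.hom_ext (LinearMap.ext fun x =>
      (Submodule.Quotient.mk_eq_zero _).2 (LinearMap.mem_range_self ι x)))
  have hS : S.ShortExact :=
    { exact := (ShortComplex.moduleCat_exact_iff _).2 fun x hx => (Submodule.Quotient.mk_eq_zero _).1 hx
      mono_f := (ModuleCat.mono_iff_injective _).2 hι
      epi_g := (ModuleCat.epi_iff_surjective _).2 (Submodule.mkQ_surjective _) }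
  haveI : Subsingleton (Ext S.X₃ AA (d + 1)) :=
    subsingleton_ext_killed hE (n := n) (LC.quotPow (maximalIdeal A) n ⧸ LinearMap.range ι) (fun a ha x => by
      obtain ⟨x, rfl⟩ := Submodule.Quotient.mk_surjective _ x
      rw [← Submodule.Quotient.mk_smul, quotPow_killed n a ha x, Submodule.Quotient.mk_zero]) (by omega)
  obtain ⟨e', he'⟩ := Ext.contravariant_sequence_exact₁ hS AA e (add_comm 1 d) (Subsingleton.elim _ _)
  refine ⟨LinearMap.toSpanSingleton A _ (LC.toH (maximalIdeal A) d n AA e'), fun x hx => ?_⟩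
  rw [LinearMap.toSpanSingleton_apply, ← map_smul, LC.smul_eq_mk₀_comp]
  have hx' := he (Submodule.Quotient.mk ⟨x, hx⟩)
  rw [Submodule.liftQ_apply] at hx'
  rw [← hx', ← he', Ext.mk₀_comp_mk₀_assoc]
  congr 3
  refine LC.hom_ext_oneQ _ _ ?_
  refine (LC.smul_oneQ (maximalIdeal A) x).trans ?_
  exact (congrArg ι (LC.homOfTors_oneQ (maximalIdeal A) (ModuleCat.of A X')
    (fun a ha => hkX a ha (Submodule.Quotient.mk ⟨x, hx⟩)))).symm

end GrothLib.Gor
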