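import Groth.Agent.Lib.Gor.Hull
import Groth.Agent.Lib.LC.Cd
import Groth.Agent.Lib.InjMod.Essential

/-! If the only local cohomology of `A` is one injective module then `A` is Gorenstein. -/

universe u

open CategoryTheory Abelian IsLocalRing

namespace GrothLib.Gor

section Split

variable {R : Type u} [CommRing R] {M : Type u} [AddCommGroup M] [Module R M]

theorem exists_section (N : Submodule R M) (hN : Module.Injective R N) :
    ∃ (p : M →ₗ[R] N) (s : (M ⧸ N) →ₗ[R] M),
      (∀ x, N.mkQ (s x) = x) ∧ ∀ m, (p m : M) + s (N.mkQ m) = m := by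
  obtain ⟨p, hp⟩ := hN.out N.subtype N.injective_subtype LinearMap.id
  refine ⟨p, N.liftQ (LinearMap.id - N.subtype ∘ₗ p) (fun m hm => ?_), fun x => ?_, fun m => ?_⟩
  · rw [LinearMap.mem_ker, LinearMap.sub_apply, LinearMap.comp_apply, LinearMap.id_apply,
      show p m = (⟨m, hm⟩ : N) by simpa using hp ⟨m, hm⟩]
    exact sub_self m
  · obtain ⟨m, rfl⟩ := N.mkQ_surjective x
    simp only [Submodule.mkQ_apply, Submodule.liftQ_apply]
    refine (Submodule.Quotient.eq N).2 ?_
    show m - (p m : M) - m ∈ N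
    rw [show m - (p m : M) - m = -(p m : M) by abel]
    exact neg_mem (p m).2
  · rw [Submodule.mkQ_apply, Submodule.liftQ_apply]
    show (p m : M) + (m - (p m : M)) = m
    abel

theorem injective_quotient (N : Submodule R M) (hN : Module.Injective R N) (hM : Module.Injective R M) :
    Module.Injective R (M ⧸ N) := by
  obtain ⟨p, s, hs, -⟩ := exists_section N hN
  exact GrothLib.InjMod.injective_of_retract s N.mkQ (LinearMap.ext hs) hM

theorem injective_extension (N : Submodule R M) (hN : Module.Injective R N)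
    (hQ : Module.Injective R (M ⧸ N)) : Module.Injective R M := by
  obtain ⟨p, s, hs, hps⟩ := exists_section N hN
  refine Module.Baer.injective fun I g => ?_
  obtain ⟨a, ha⟩ := hN.out I.subtype I.injective_subtype (p ∘ₗ g)
  obtain ⟨b, hb⟩ := hQ.out I.subtype I.injective_subtype (N.mkQ ∘ₗ g)
  refine ⟨N.subtype ∘ₗ a + s ∘ₗ b, fun x hx => ?_⟩
  have h1 : a x = p (g ⟨x, hx⟩) := ha ⟨x, hx⟩
  have h2 : b x = N.mkQ (g ⟨x, hx⟩) := hb ⟨x, hx⟩
  show (a x : M) + s (b x) = g ⟨x, hx⟩
  rw [h1, h2]
  exact hps _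

theorem injective_of_subsingleton [Subsingleton M] : Module.Injective R M :=
  Module.Baer.injective fun _ _ => ⟨0, fun _ _ => Subsingleton.elim _ _⟩

end Split

variable {R : Type u} [CommRing R] [IsNoetherianRing R] (I : Ideal R) {M : ModuleCat.{u} R}
  (J : InjectiveResolution M)

/-- Cocycles of `Γ_I` of an injective resolution. -/
noncomputable abbrev gammaZ (j : ℕ) : Submodule R ((LC.gammaComplex I J).X j) :=
  LinearMap.ker ((LC.gammaComplex I J).d j (j + 1)).hom

/-- A cocycle to its local cohomology class. -/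
noncomputable def gammaClass (j : ℕ) : gammaZ I J j →ₗ[R] (localCohomology I j).obj M where
  toFun z := LC.homologyEquiv I J j (LC.classOf j z.1 (LinearMap.mem_ker.1 z.2))
  map_add' a b := by
    rw [← map_add, ← LC.classOf_add]
    rfl
  map_smul' r a := by
    rw [RingHom.id_apply, ← map_smul, ← LC.classOf_smul]
    rfl

theorem gammaClass_surjective (j : ℕ) : Function.Surjective (gammaClass I J j) := fun h => by
  obtain ⟨c, rfl⟩ := (LC.homologyEquiv I J j).surjective h
  obtain ⟨x, hx, rfl⟩ := LC.classOf_surjective j c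
  exact ⟨⟨x, hx⟩, rfl⟩

theorem injective_gammaX (j : ℕ) : Module.Injective R ((LC.gammaComplex I J).X j) :=
  haveI := LC.injective_gammaComplex_X (J := I) (K := J) j
  Module.injective_module_of_injective_object R ((LC.gammaComplex I J).X j)

variable {I J}

theorem injective_gammaZ (hinj : ∀ j, Module.Injective R ((localCohomology I j).obj M)) :
    ∀ j, Module.Injective R (gammaZ I J j) := by
  intro j
  induction j with
  | zero =>
    refine GrothLib.InjMod.injective_of_linearEquiv (LinearEquiv.ofBijective (gammaClass I J 0)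
      ⟨(injective_iff_map_eq_zero _).2 fun z hz => ?_, gammaClass_surjective I J 0⟩) (hinj 0)
    exact Subtype.ext ((LC.classOf_zero_eq_zero_iff z.1 z.2).1
      ((LC.homologyEquiv I J 0).map_eq_zero_iff.1 hz))
  | succ j ih =>
    let ψ : (LC.gammaComplex I J).X j →ₗ[R] gammaZ I J (j + 1) :=
      LinearMap.codRestrict _ ((LC.gammaComplex I J).d j (j + 1)).hom fun w => LinearMap.mem_ker.2
        (ConcreteCategory.congr_hom ((LC.gammaComplex I J).d_comp_d j (j + 1) (j + 2)) w)
    have hker : LinearMap.ker ψ = gammaZ I J j := LinearMap.ker_codRestrict _ _ _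
    have hrange : LinearMap.range ψ = LinearMap.ker (gammaClass I J (j + 1)) := by
      ext z
      rw [LinearMap.mem_ker]
      refine Iff.trans ?_ (((LC.homologyEquiv I J (j + 1)).map_eq_zero_iff).trans
        (LC.classOf_succ_eq_zero_iff j z.1 z.2)).symm
      exact exists_congr fun w => Subtype.ext_iff
    refine injective_extension (LinearMap.ker (gammaClass I J (j + 1))) ?_ ?_
    · rw [← hrange]
      refine GrothLib.InjMod.injective_of_linearEquiv ψ.quotKerEquivRange.symm ?_
      rw [hker]
      exact injective_quotient _ ih (injective_gammaX I J j)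
    · exact GrothLib.InjMod.injective_of_linearEquiv
        ((gammaClass I J (j + 1)).quotKerEquivOfSurjective (gammaClass_surjective I J (j + 1))) (hinj _)

theorem subsingleton_ext_quotPow (hinj : ∀ j, Module.Injective R ((localCohomology I j).obj M))
    {i : ℕ} (hH : Subsingleton ((localCohomology I (i + 1)).obj M)) (J : InjectiveResolution M) :
    Subsingleton (Ext (LC.quotPow I 1) M (i + 1)) := by
  refine subsingleton_of_forall_eq 0 fun e => ?_
  obtain ⟨f, hf, rfl⟩ := J.extMk_surjective e (i + 2) rfl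
  let y : (LC.gammaComplex I J).X (i + 1) := ⟨f (LC.oneQ I 1), LC.eval_mem I _ f⟩
  have hy : (LC.gammaComplex I J).d (i + 1) (i + 2) y = 0 :=
    Subtype.ext (ConcreteCategory.congr_hom hf (LC.oneQ I 1))
  have hky : ∀ a ∈ I ^ 1, a • y = 0 := fun a ha => Subtype.ext (by
    show a • f (LC.oneQ I 1) = 0
    rw [← map_smul, LC.smul_oneQ, Ideal.Quotient.eq_zero_iff_mem.2 ha, map_zero])
  haveI := (LC.homologyEquiv I J (i + 1)).toEquiv.subsingleton
  obtain ⟨w₀, hw₀⟩ := (LC.classOf_succ_eq_zero_iff i y hy).1 (Subsingleton.elim _ _)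
  obtain ⟨p, s, hs, hps⟩ := exists_section (gammaZ I J i) (injective_gammaZ hinj i)
  let w := s ((gammaZ I J i).mkQ w₀)
  have hkw : ∀ a ∈ I ^ 1, a • w = 0 := fun a ha => by
    rw [← map_smul, ← map_smul, Submodule.mkQ_apply,
      (Submodule.Quotient.mk_eq_zero _).2 (LinearMap.mem_ker.2 ?_), map_zero]
    rw [map_smul, hw₀]
    exact hky a ha
  have hdw : (LC.gammaComplex I J).d i (i + 1) w = y := by
    have h : w₀ - w ∈ gammaZ I J i := (Submodule.Quotient.eq _).1 (hs ((gammaZ I J i).mkQ w₀)).symm
    rw [LinearMap.mem_ker, map_sub, hw₀, sub_eq_zero] at h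
    exact h.symm
  refine (J.extMk_eq_zero_iff f (i + 2) rfl hf i rfl).2
    ⟨LC.homOfTors I _ (n := 1) (m := w.1) (fun a ha => congrArg Subtype.val (hkw a ha)),
      LC.hom_ext_oneQ I _ ?_⟩
  show J.cocomplex.d i (i + 1) (LC.homOfTors I _ (n := 1) (m := w.1) _ (LC.oneQ I 1)) = f (LC.oneQ I 1)
  rw [LC.homOfTors_oneQ]
  exact congrArg Subtype.val hdw

end GrothLib.Gor
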